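import Groth.Prelude.Def_DeRham
import Mathlib.LinearAlgebra.ExteriorPower.Basis
import Mathlib.LinearAlgebra.CliffordAlgebra.Contraction

/-!
# Basic calculus for a de Rham family `d` on the exterior powers of a receptacle `(M, δ)`

Generators and induction, left multiplication by a one-form (`wedge1`), contraction (`contr`), the Leibniz
rules for `d`, the Lie derivative.
-/

set_option autoImplicit false

universe v u v' u'

open exteriorPower

namespace K852.DR

section gens

variable {R : Type v} {A M : Type u} [CommRing R] [CommRing A] [Algebra R A]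
  [AddCommGroup M] [Module A M] [Module R M]

/-- every scalar multiple of a wedge is an additive combination of the generators -/
theorem ιMulti_mem_closure_gen (δ : Derivation R A M)
    (hgen : Submodule.span A (Set.range δ) = ⊤) (p : ℕ) (v : Fin p → M) (b₀ : A) :
    b₀ • ιMulti A p v ∈
      AddSubgroup.closure {x : ↥(⋀[A]^p M) | ∃ (b₀ : A) (b : Fin p → A), x = DeRham.gen δ p b₀ b} := by
  have h1 : Submodule.span A (ιMulti A p '' {a | Set.range a ⊆ Set.range δ}) = ⊤ :=
    ιMulti_span_of_span A p M hgen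
  have h2 : b₀ • ιMulti A p v ∈ Submodule.span A (ιMulti A p '' {a | Set.range a ⊆ Set.range δ}) := by
    rw [h1]; trivial
  rw [Submodule.mem_span_set'] at h2
  obtain ⟨n, f, g, hfg⟩ := h2
  rw [← hfg]
  refine AddSubgroup.sum_mem _ fun i _ => AddSubgroup.subset_closure ?_
  obtain ⟨a, ha, hga⟩ := (g i).2
  have : ∀ k, ∃ b, δ b = a k := fun k => ha ⟨k, rfl⟩
  choose b hb using this
  refine ⟨f i, b, ?_⟩
  rw [DeRham.gen, ← hga]
  congr 2
  funext k
  exact (hb k).symm

theorem closure_gen (δ : Derivation R A M)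
    (hgen : Submodule.span A (Set.range δ) = ⊤) (p : ℕ) :
    AddSubgroup.closure {x : ↥(⋀[A]^p M) | ∃ (b₀ : A) (b : Fin p → A), x = DeRham.gen δ p b₀ b} = ⊤ := by
  rw [eq_top_iff]
  rintro x -
  have h1 : x ∈ Submodule.span A (Set.range (ιMulti A p (M := M))) := by
    rw [ιMulti_span]; trivial
  rw [Submodule.mem_span_set'] at h1
  obtain ⟨n, f, g, hfg⟩ := h1
  rw [← hfg]
  refine AddSubgroup.sum_mem _ fun i _ => ?_
  obtain ⟨a, ha⟩ := (g i).2
  rw [← ha]
  exact ιMulti_mem_closure_gen δ hgen p a (f i)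

/-- Induction principle: additive predicates on `⋀^p M` may be checked on the generators. -/
theorem gen_induction (δ : Derivation R A M)
    (hgen : Submodule.span A (Set.range δ) = ⊤) (p : ℕ) {P : ↥(⋀[A]^p M) → Prop}
    (hg : ∀ (b₀ : A) (b : Fin p → A), P (DeRham.gen δ p b₀ b)) (h0 : P 0)
    (hadd : ∀ x y, P x → P y → P (x + y)) (hneg : ∀ x, P x → P (-x)) (x : ↥(⋀[A]^p M)) : P x := by
  have hx : x ∈ AddSubgroup.closure
      {x : ↥(⋀[A]^p M) | ∃ (b₀ : A) (b : Fin p → A), x = DeRham.gen δ p b₀ b} := by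
    rw [closure_gen δ hgen p]; trivial
  induction hx using AddSubgroup.closure_induction with
  | mem x hx => obtain ⟨b₀, b, rfl⟩ := hx; exact hg b₀ b
  | zero => exact h0
  | add x y _ _ hx hy => exact hadd x y hx hy
  | neg x _ hx => exact hneg x hx

/-- Two additive maps out of `⋀^p M` agreeing on generators are equal. -/
theorem gen_ext {N : Type*} [AddCommGroup N] (δ : Derivation R A M)
    (hgen : Submodule.span A (Set.range δ) = ⊤) (p : ℕ) (f g : ↥(⋀[A]^p M) →+ N)
    (h : ∀ (b₀ : A) (b : Fin p → A), f (DeRham.gen δ p b₀ b) = g (DeRham.gen δ p b₀ b)) : f = g := by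
  ext x
  refine gen_induction δ hgen p (P := fun x => f x = g x) h ?_ ?_ ?_ x
  · simp
  · intro x y hx hy; simp [hx, hy]
  · intro x hx; simp [hx]

theorem smul_gen (δ : Derivation R A M) (p : ℕ) (a b₀ : A) (b : Fin p → A) :
    a • DeRham.gen δ p b₀ b = DeRham.gen δ p (a * b₀) b := by
  rw [DeRham.gen, DeRham.gen, mul_smul]

end gens

theorem kaehler_span (R : Type v) (A : Type u) [CommRing R] [CommRing A] [Algebra R A] :
    Submodule.span A (Set.range (KaehlerDifferential.D R A)) = ⊤ :=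
  KaehlerDifferential.span_range_derivation R A

section wedge

variable {A : Type u} {M : Type v} [CommRing A] [AddCommGroup M] [Module A M]

/-- Left multiplication by a one-form, as a bilinear map. -/
noncomputable def wedge1 (p : ℕ) : M →ₗ[A] ↥(⋀[A]^p M) →ₗ[A] ↥(⋀[A]^(p + 1) M) :=
  LinearMap.mk₂ A (fun m x => ⟨ExteriorAlgebra.ι A m * (x : ExteriorAlgebra A M), by
      rw [ExteriorAlgebra.exteriorPower, pow_succ']
      exact Submodule.mul_mem_mul ⟨m, rfl⟩ x.2⟩)
    (fun m m' x => by ext; simp [add_mul]) (fun c m x => by ext; simp)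
    (fun m x y => by ext; simp [mul_add]) (fun c m x => by ext; simp)

@[simp] theorem wedge1_coe (p : ℕ) (m : M) (x : ↥(⋀[A]^p M)) :
    ((wedge1 p m x : ↥(⋀[A]^(p + 1) M)) : ExteriorAlgebra A M) =
      ExteriorAlgebra.ι A m * (x : ExteriorAlgebra A M) := rfl

theorem wedge1_ιMulti (p : ℕ) (m : M) (v : Fin p → M) :
    wedge1 p m (ιMulti A p v) = ιMulti A (p + 1) (Fin.cons m v) := by
  apply Subtype.ext
  rw [wedge1_coe, ιMulti_apply_coe, ιMulti_apply_coe, ExteriorAlgebra.ιMulti_succ_apply]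
  simp [Matrix.vecTail, Function.comp_def]

theorem ιMulti_cons (p : ℕ) (m : M) (v : Fin p → M) :
    ιMulti A (p + 1) (Fin.cons m v : Fin (p + 1) → M) = wedge1 p m (ιMulti A p v) :=
  (wedge1_ιMulti p m v).symm

theorem ιMulti_succ (p : ℕ) (v : Fin (p + 1) → M) :
    ιMulti A (p + 1) v = wedge1 p (v 0) (ιMulti A p (fun i => v i.succ)) := by
  rw [wedge1_ιMulti]
  congr 1
  funext i
  refine Fin.cases ?_ (fun i => ?_) i <;> simp

@[simp] theorem wedge1_self (p : ℕ) (m : M) (x : ↥(⋀[A]^p M)) :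
    wedge1 (p + 1) m (wedge1 p m x) = 0 := by
  apply Subtype.ext
  simp [← mul_assoc]

theorem wedge1_swap (p : ℕ) (m n : M) (x : ↥(⋀[A]^p M)) :
    wedge1 (p + 1) m (wedge1 p n x) = - wedge1 (p + 1) n (wedge1 p m x) := by
  apply Subtype.ext
  have h := ExteriorAlgebra.ι_add_mul_swap (R := A) m n
  rw [Submodule.coe_neg, wedge1_coe, wedge1_coe, wedge1_coe, wedge1_coe, ← mul_assoc, ← mul_assoc,
    ← neg_mul, ← eq_neg_of_add_eq_zero_left h]

/-- Every element of `⋀^(p+1)` is a sum of elements `m ∧ x`. -/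
theorem wedge1_induction (p : ℕ) {P : ↥(⋀[A]^(p + 1) M) → Prop}
    (hw : ∀ (m : M) (x : ↥(⋀[A]^p M)), P (wedge1 p m x)) (h0 : P 0)
    (hadd : ∀ x y, P x → P y → P (x + y)) (x : ↥(⋀[A]^(p + 1) M)) : P x := by
  have h1 : x ∈ Submodule.span A (Set.range (ιMulti A (p + 1) (M := M))) := by
    rw [ιMulti_span]; trivial
  induction h1 using Submodule.span_induction with
  | mem x hx => obtain ⟨v, rfl⟩ := hx; rw [ιMulti_succ]; exact hw _ _
  | zero => exact h0
  | add x y _ _ hx hy => exact hadd x y hx hy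
  | smul a x _ hx =>
    -- scalar multiples
    have : ∀ y : ↥(⋀[A]^(p + 1) M), P (a • y) := by
      intro y
      have h1 : y ∈ Submodule.span A (Set.range (ιMulti A (p + 1) (M := M))) := by
        rw [ιMulti_span]; trivial
      rw [Submodule.mem_span_set'] at h1
      obtain ⟨n, f, g, hfg⟩ := h1
      rw [← hfg, Finset.smul_sum]
      refine Finset.sum_induction _ P hadd h0 fun i _ => ?_
      obtain ⟨v, hv⟩ := (g i).2
      rw [← hv, ιMulti_succ, ← map_smul, ← map_smul]
      exact hw _ _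
    exact this x

end wedge

section contr

variable {A : Type u} {M : Type v} [CommRing A] [AddCommGroup M] [Module A M]

theorem contractLeft_mem (φ : Module.Dual A M) (p : ℕ) (x : ExteriorAlgebra A M)
    (hx : x ∈ ⋀[A]^(p + 1) M) :
    CliffordAlgebra.contractLeft (Q := (0 : QuadraticForm A M)) φ x ∈ ⋀[A]^p M := by
  induction p generalizing x with
  | zero =>
    rw [zero_add, ExteriorAlgebra.exteriorPower, pow_one] at hx
    obtain ⟨m, rfl⟩ := hx
    have : CliffordAlgebra.contractLeft (Q := (0 : QuadraticForm A M)) φ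
      (ExteriorAlgebra.ι A m) = algebraMap A _ (φ m) := CliffordAlgebra.contractLeft_ι _ _ _
    rw [this, ExteriorAlgebra.exteriorPower, pow_zero]
    exact Submodule.algebraMap_mem _
  | succ p ih =>
    rw [ExteriorAlgebra.exteriorPower, pow_succ'] at hx
    induction hx using Submodule.mul_induction_on' with
    | mem_mul_mem m hm y hy =>
      obtain ⟨m, rfl⟩ := hm
      have : CliffordAlgebra.contractLeft (Q := (0 : QuadraticForm A M)) φ
        (ExteriorAlgebra.ι A m * y) = φ m • y - ExteriorAlgebra.ι A m *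
          CliffordAlgebra.contractLeft (Q := (0 : QuadraticForm A M)) φ y :=
        CliffordAlgebra.contractLeft_ι_mul _ _ _
      rw [this]
      refine Submodule.sub_mem _ (Submodule.smul_mem _ _ hy) ?_
      rw [ExteriorAlgebra.exteriorPower, pow_succ']
      exact Submodule.mul_mem_mul ⟨m, rfl⟩ (ih y hy)
    | add x _ y _ hx hy => rw [map_add]; exact Submodule.add_mem _ hx hy

/-- Contraction of forms with a linear form `φ : M → A`. -/
noncomputable def contr (φ : Module.Dual A M) (p : ℕ) : ↥(⋀[A]^(p + 1) M) →ₗ[A] ↥(⋀[A]^p M) :=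
  (CliffordAlgebra.contractLeft (Q := (0 : QuadraticForm A M)) φ).restrict (contractLeft_mem φ p)

theorem contr_coe (φ : Module.Dual A M) (p : ℕ) (x : ↥(⋀[A]^(p + 1) M)) :
    ((contr φ p x : ↥(⋀[A]^p M)) : ExteriorAlgebra A M) =
      CliffordAlgebra.contractLeft (Q := (0 : QuadraticForm A M)) φ (x : ExteriorAlgebra A M) := rfl

theorem contr_wedge1_zero (φ : Module.Dual A M) (m : M) (x : ↥(⋀[A]^0 M)) :
    contr φ 0 (wedge1 0 m x) = φ m • x := by
  apply Subtype.ext
  have hx : (x : ExteriorAlgebra A M) ∈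
    (LinearMap.range (ExteriorAlgebra.ι A (M := M))) ^ 0 := x.2
  rw [pow_zero] at hx
  obtain ⟨a, ha⟩ := hx
  have ha : algebraMap A _ a = (x : ExteriorAlgebra A M) := by
    rw [Algebra.algebraMap_eq_smul_one]; simpa using ha
  rw [contr_coe, wedge1_coe, Submodule.coe_smul]
  have : CliffordAlgebra.contractLeft (Q := (0 : QuadraticForm A M)) φ
        (ExteriorAlgebra.ι A m * x) = φ m • x - ExteriorAlgebra.ι A m *
          CliffordAlgebra.contractLeft (Q := (0 : QuadraticForm A M)) φ x :=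
        CliffordAlgebra.contractLeft_ι_mul _ _ _
  rw [this, ← ha]
  have : CliffordAlgebra.contractLeft (Q := (0 : QuadraticForm A M)) φ
    (algebraMap A (ExteriorAlgebra A M) a) = 0 := CliffordAlgebra.contractLeft_algebraMap _ _ _
  rw [this, mul_zero, sub_zero]

theorem contr_wedge1 (φ : Module.Dual A M) (p : ℕ) (m : M) (x : ↥(⋀[A]^(p + 1) M)) :
    contr φ (p + 1) (wedge1 (p + 1) m x) = φ m • x - wedge1 p m (contr φ p x) := by
  apply Subtype.ext
  rw [contr_coe, wedge1_coe, Submodule.coe_sub, Submodule.coe_smul, wedge1_coe, contr_coe]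
  exact CliffordAlgebra.contractLeft_ι_mul _ _ _

theorem contr_contr (φ : Module.Dual A M) (p : ℕ) (x : ↥(⋀[A]^(p + 1 + 1) M)) :
    contr φ p (contr φ (p + 1) x) = 0 := by
  apply Subtype.ext
  rw [contr_coe, contr_coe]
  exact CliffordAlgebra.contractLeft_contractLeft _ _

theorem contr_comm (φ ψ : Module.Dual A M) (p : ℕ) (x : ↥(⋀[A]^(p + 1 + 1) M)) :
    contr φ p (contr ψ (p + 1) x) = - contr ψ p (contr φ (p + 1) x) := by
  apply Subtype.ext
  rw [Submodule.coe_neg, contr_coe, contr_coe, contr_coe, contr_coe]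
  exact CliffordAlgebra.contractLeft_comm _ _ _

end contr

section leibniz

variable {R : Type v} {A M : Type u} [CommRing R] [CommRing A] [Algebra R A]
  [AddCommGroup M] [Module A M] [Module R M] [IsScalarTower R A M]
  {δ : Derivation R A M} {d : ∀ p : ℕ, ↥(⋀[A]^p M) →ₗ[R] ↥(⋀[A]^(p + 1) M)}

theorem d_gen (hd : DeRham.IsRule δ d) (p : ℕ) (b₀ : A) (b : Fin p → A) :
    d p (DeRham.gen δ p b₀ b) = wedge1 p (δ b₀) (ιMulti A p (fun i => δ (b i))) := by
  rw [hd p b₀ b, ιMulti_cons]

/-- `d (a x) = δa ∧ x + a dx`. -/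
theorem d_smul (hgen : Submodule.span A (Set.range δ) = ⊤) (hd : DeRham.IsRule δ d) (p : ℕ) (a : A)
    (x : ↥(⋀[A]^p M)) : d p (a • x) = wedge1 p (δ a) x + a • d p x := by
  refine gen_induction δ hgen p (P := fun x => d p (a • x) = wedge1 p (δ a) x + a • d p x)
    ?_ ?_ ?_ ?_ x
  · intro b₀ b
    rw [smul_gen, d_gen hd, d_gen hd, DeRham.gen, Derivation.leibniz, map_add, map_smul, map_smul,
      LinearMap.add_apply, LinearMap.smul_apply, LinearMap.smul_apply, map_smul]
    exact add_comm _ _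
  · simp
  · intro x y hx hy
    rw [smul_add, map_add, hx, hy, map_add, map_add, smul_add]; abel
  · intro x hx
    rw [smul_neg, map_neg, hx, map_neg, map_neg, smul_neg]; abel

/-- `d (δa ∧ x) = - δa ∧ dx`. -/
theorem d_wedge1 (hgen : Submodule.span A (Set.range δ) = ⊤) (hd : DeRham.IsRule δ d) (p : ℕ) (a : A)
    (x : ↥(⋀[A]^p M)) : d (p + 1) (wedge1 p (δ a) x) = - wedge1 (p + 1) (δ a) (d p x) := by
  refine gen_induction δ hgen p (P := fun x => d (p + 1) (wedge1 p (δ a) x) =
    - wedge1 (p + 1) (δ a) (d p x)) ?_ ?_ ?_ ?_ x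
  · intro b₀ b
    have h1 : wedge1 p (δ a) (DeRham.gen δ p b₀ b) = DeRham.gen δ (p + 1) b₀ (Fin.cons a b) := by
      rw [DeRham.gen, DeRham.gen, map_smul, wedge1_ιMulti]
      congr 2
      funext i
      refine Fin.cases ?_ (fun i => ?_) i <;> simp
    rw [h1, d_gen hd, d_gen hd, wedge1_swap, neg_neg]
    rw [ιMulti_succ]
    simp
  · simp
  · intro x y hx hy
    rw [map_add, map_add, hx, hy, map_add, map_add, neg_add]
  · intro x hx
    rw [map_neg, map_neg, hx, map_neg, map_neg]

theorem d_d (hgen : Submodule.span A (Set.range δ) = ⊤) (hd : DeRham.IsRule δ d) (p : ℕ)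
    (x : ↥(⋀[A]^p M)) : d (p + 1) (d p x) = 0 := by
  refine gen_induction δ hgen p (P := fun x => d (p + 1) (d p x) = 0) ?_ ?_ ?_ ?_ x
  · intro b₀ b
    rw [d_gen hd]
    have h2 := d_wedge1 hgen hd p b₀ (ιMulti A p (fun i => δ (b i)))
    rw [h2]
    have h3 : ιMulti A p (fun i => δ (b i)) = DeRham.gen δ p 1 b := by
      rw [DeRham.gen, one_smul]
    rw [h3, d_gen hd, Derivation.map_one_eq_zero]
    simp
  · simp
  · intro x y hx hy
    rw [map_add, map_add, hx, hy, add_zero]
  · intro x hx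
    rw [map_neg, map_neg, hx, neg_zero]

theorem isDiff_of_isRule (hgen : Submodule.span A (Set.range δ) = ⊤) (hd : DeRham.IsRule δ d) :
    DeRham.IsDiff δ d :=
  ⟨hd, fun p => LinearMap.ext fun x => d_d hgen hd p x⟩

end leibniz

section lie

variable {R : Type v} {A M : Type u} [CommRing R] [CommRing A] [Algebra R A]
  [AddCommGroup M] [Module A M] [Module R M] [IsScalarTower R A M]
  {δ : Derivation R A M} (d : ∀ p : ℕ, ↥(⋀[A]^p M) →ₗ[R] ↥(⋀[A]^(p + 1) M))

/-- The Lie derivative `L = d ∘ i_φ + i_φ ∘ d` along the vector field `φ : M → A`, degree by degree. -/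
noncomputable def lie (φ : Module.Dual A M) : ∀ p : ℕ, ↥(⋀[A]^p M) →ₗ[R] ↥(⋀[A]^p M)
  | 0 => ((contr φ 0).restrictScalars R) ∘ₗ d 0
  | p + 1 => d p ∘ₗ ((contr φ p).restrictScalars R) + ((contr φ (p + 1)).restrictScalars R) ∘ₗ d (p + 1)

theorem lie_zero (φ : Module.Dual A M) (x : ↥(⋀[A]^0 M)) :
    lie d φ 0 x = contr φ 0 (d 0 x) := rfl

theorem lie_succ (φ : Module.Dual A M) (p : ℕ) (x : ↥(⋀[A]^(p + 1) M)) :
    lie d φ (p + 1) x = d p (contr φ p x) + contr φ (p + 1) (d (p + 1) x) := rfl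

variable {d}

theorem lie_smul (hgen : Submodule.span A (Set.range δ) = ⊤) (hd : DeRham.IsRule δ d)
    (φ : Module.Dual A M) (p : ℕ) (a : A) (x : ↥(⋀[A]^p M)) :
    lie d φ p (a • x) = φ (δ a) • x + a • lie d φ p x := by
  cases p with
  | zero =>
    rw [lie_zero, lie_zero, d_smul hgen hd, map_add, map_smul, contr_wedge1_zero]
  | succ p =>
    rw [lie_succ, lie_succ, d_smul hgen hd, map_add, (contr φ p).map_smul, (contr φ (p + 1)).map_smul,
      contr_wedge1, d_smul hgen hd, smul_add]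
    abel

theorem lie_wedge1 (hgen : Submodule.span A (Set.range δ) = ⊤) (hd : DeRham.IsRule δ d)
    (φ : Module.Dual A M) (p : ℕ) (a : A) (x : ↥(⋀[A]^p M)) :
    lie d φ (p + 1) (wedge1 p (δ a) x) = wedge1 p (δ (φ (δ a))) x + wedge1 p (δ a) (lie d φ p x) := by
  cases p with
  | zero =>
    rw [lie_succ, lie_zero, contr_wedge1_zero, d_smul hgen hd, d_wedge1 hgen hd, map_neg, contr_wedge1]
    abel
  | succ p =>
    rw [lie_succ, lie_succ, contr_wedge1, map_sub, d_smul hgen hd, d_wedge1 hgen hd, d_wedge1 hgen hd,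
      map_neg, contr_wedge1, map_add]
    abel

theorem lie_d (hdd : ∀ (p : ℕ) (x : ↥(⋀[A]^p M)), d (p + 1) (d p x) = 0)
    (φ : Module.Dual A M) (p : ℕ) (x : ↥(⋀[A]^p M)) :
    lie d φ (p + 1) (d p x) = d p (lie d φ p x) := by
  cases p with
  | zero => rw [lie_succ, lie_zero, hdd, map_zero, add_zero]
  | succ p => rw [lie_succ, lie_succ, hdd, map_zero, add_zero, map_add, hdd, zero_add]

end lie

end K852.DR
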