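import Mathlib.RingTheory.Kaehler.Basic
import Mathlib.Algebra.CharP.Lemmas
import Mathlib.Algebra.CharP.Frobenius
import Mathlib.GroupTheory.QuotientGroup.Defs
import Mathlib.RingTheory.Etale.Kaehler
import Mathlib.Data.Nat.Choose.Dvd
import Groth.Agent.DeRham.K852.Basic

/-!
# The inverse Cartier operator in degree one
-/

set_option autoImplicit false
set_option linter.unusedSectionVars false

universe u v

noncomputable section

namespace K852.Cartier

section derivation

variable {A B M : Type*} [CommRing A] [CommRing B] [Algebra A B] [AddCommGroup M] [Module A M]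
  [Module B M]

/-- `(g+h)^(p-1) d(g+h) = g^(p-1) dg + h^(p-1) dh + dφ`. -/
theorem exists_add (p : ℕ) (hp : p.Prime) (D : Derivation A B M) (g h : B) :
    ∃ φ : B, (g + h) ^ (p - 1) • D (g + h) = g ^ (p - 1) • D g + h ^ (p - 1) • D h + D φ := by
  obtain ⟨n, rfl⟩ : ∃ n, p = n + 1 := ⟨p - 1, (Nat.succ_pred_eq_of_pos hp.pos).symm⟩
  simp only [Nat.add_sub_cancel]
  have hdvd : ∀ i < n, ∃ c : ℕ, (n + 1).choose (i + 1) = (n + 1) * c := fun i hi =>
    Nat.Prime.dvd_choose_self hp (Nat.succ_ne_zero i) (Nat.succ_lt_succ hi)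
  choose! c hc using hdvd
  have h1 : ∀ i < n, c i * (i + 1) = n.choose i := by
    intro i hi
    have h := Nat.add_one_mul_choose_eq n i
    rw [hc i hi, mul_assoc] at h
    exact (Nat.eq_of_mul_eq_mul_left (Nat.succ_pos n) h).symm
  have h2 : ∀ i < n, c i * (n - i) = n.choose (i + 1) := by
    intro i hi
    have h := Nat.choose_mul_succ_eq n (i + 1)
    rw [Nat.add_sub_add_right, hc i hi, mul_comm, mul_assoc] at h
    exact (Nat.eq_of_mul_eq_mul_left (Nat.succ_pos n) h).symm
  have e1 : (g + h) ^ n = ∑ i ∈ Finset.range n, (n.choose i : B) * (g ^ i * h ^ (n - i)) + g ^ n := by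
    rw [add_pow, Finset.sum_range_succ]
    congr 1
    · refine Finset.sum_congr rfl fun i _ => by ring
    · simp
  have e2 : (g + h) ^ n = ∑ i ∈ Finset.range n,
      (n.choose (i + 1) : B) * (g ^ (i + 1) * h ^ (n - i - 1)) + h ^ n := by
    rw [add_pow, Finset.sum_range_succ']
    congr 1
    · refine Finset.sum_congr rfl fun i _ => ?_
      rw [Nat.sub_sub]; ring
    · simp
  refine ⟨∑ i ∈ Finset.range n, (c i : B) * (g ^ (i + 1) * h ^ (n - i)), ?_⟩
  have e3 : D (∑ i ∈ Finset.range n, (c i : B) * (g ^ (i + 1) * h ^ (n - i))) =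
      (∑ i ∈ Finset.range n, (n.choose i : B) * (g ^ i * h ^ (n - i))) • D g +
      (∑ i ∈ Finset.range n, (n.choose (i + 1) : B) * (g ^ (i + 1) * h ^ (n - i - 1))) • D h := by
    rw [map_sum, Finset.sum_smul, Finset.sum_smul, ← Finset.sum_add_distrib]
    refine Finset.sum_congr rfl fun i hi => ?_
    have hi := Finset.mem_range.mp hi
    rw [Derivation.leibniz, Derivation.map_natCast, smul_zero, add_zero, Derivation.leibniz,
      Derivation.leibniz_pow, Derivation.leibniz_pow, Nat.add_sub_cancel, smul_add, add_comm]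
    congr 1
    · rw [← h1 i hi, ← Nat.cast_smul_eq_nsmul B, smul_smul, smul_smul, smul_smul]
      congr 1
      push_cast
      ring
    · rw [← h2 i hi, ← Nat.cast_smul_eq_nsmul B, smul_smul, smul_smul, smul_smul]
      congr 1
      push_cast
      ring
  rw [e3, map_add, smul_add]
  have e1' := congrArg (fun x => x • D g) e1
  have e2' := congrArg (fun x => x • D h) e2
  simp only [add_smul] at e1' e2'
  rw [e1', e2']
  abel

end derivation

section

variable (p : ℕ) (A B : Type u) [CommRing A] [CommRing B] [Algebra A B]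

/-- exact one-forms -/
def ex : AddSubgroup (Ω[B⁄A]) := (KaehlerDifferential.D A B).toLinearMap.toAddMonoidHom.range

variable {A B} in
theorem mem_ex {x : Ω[B⁄A]} : x ∈ ex A B ↔ ∃ b, KaehlerDifferential.D A B b = x := Iff.rfl

variable {p A B} in
theorem pow_smul_D [CharP B p] (b g : B) : b ^ p • KaehlerDifferential.D A B g =
    KaehlerDifferential.D A B (b ^ p * g) := by
  rw [Derivation.leibniz, Derivation.leibniz_pow, ← Nat.cast_smul_eq_nsmul B, CharP.cast_eq_zero,
    zero_smul, smul_zero, add_zero]

variable {p A B} in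
theorem pow_smul_mem_ex [CharP B p] (b : B) {x : Ω[B⁄A]} (hx : x ∈ ex A B) : b ^ p • x ∈ ex A B := by
  obtain ⟨g, rfl⟩ := mem_ex.mp hx
  exact ⟨b ^ p * g, (pow_smul_D b g).symm⟩

set_option linter.unusedVariables false in
/-- one-forms modulo exact forms, with `B` acting through the Frobenius -/
def Nq (p : ℕ) (A B : Type u) [CommRing A] [CommRing B] [Algebra A B] : Type u := Ω[B⁄A] ⧸ ex A B

instance : AddCommGroup (Nq p A B) := inferInstanceAs (AddCommGroup (Ω[B⁄A] ⧸ ex A B))

/-- the class of a form -/
def mk : Ω[B⁄A] →+ Nq p A B := QuotientAddGroup.mk' (ex A B)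

variable {p A B}

theorem mk_eq_zero_iff {x : Ω[B⁄A]} : mk p A B x = 0 ↔ x ∈ ex A B := QuotientAddGroup.eq_zero_iff x

theorem mk_surjective (x : Nq p A B) : ∃ y, mk p A B y = x := QuotientAddGroup.mk'_surjective _ x

theorem mk_D (b : B) : mk p A B (KaehlerDifferential.D A B b) = 0 := mk_eq_zero_iff.mpr ⟨b, rfl⟩

variable [Fact p.Prime] [CharP B p]

/-- the action of `b` through its `p`-th power -/
def frobAct (b : B) : Nq p A B →+ Nq p A B :=
  QuotientAddGroup.map (ex A B) (ex A B) (DistribSMul.toAddMonoidHom _ (b ^ p))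
    (fun _ hx => pow_smul_mem_ex b hx)

instance instSMulB : SMul B (Nq p A B) := ⟨fun b x => frobAct b x⟩

theorem smul_mk (b : B) (x : Ω[B⁄A]) : b • mk p A B x = mk p A B (b ^ p • x) := rfl

instance instModB : Module B (Nq p A B) where
  one_smul x := by
    obtain ⟨x, rfl⟩ := mk_surjective x
    rw [smul_mk, one_pow, one_smul]
  mul_smul a b x := by
    obtain ⟨x, rfl⟩ := mk_surjective x
    rw [smul_mk, smul_mk, smul_mk, mul_pow, mul_smul]
  smul_zero a := map_zero (frobAct a)
  smul_add a x y := map_add (frobAct a) x y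
  add_smul a b x := by
    obtain ⟨x, rfl⟩ := mk_surjective x
    rw [smul_mk, smul_mk, smul_mk, add_pow_char, add_smul, map_add]
  zero_smul x := by
    obtain ⟨x, rfl⟩ := mk_surjective x
    rw [smul_mk, zero_pow (Fact.out (p := p.Prime)).ne_zero, zero_smul, map_zero]

instance instModA : Module A (Nq p A B) := Module.compHom (Nq p A B) (algebraMap A B)

theorem algebraMap_smul_Nq (a : A) (x : Nq p A B) : a • x = algebraMap A B a • x := rfl

instance : IsScalarTower A B (Nq p A B) where
  smul_assoc a b x := by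
    have h : (a • b) • x = (algebraMap A B a * b) • x := by rw [Algebra.smul_def]
    exact h.trans (mul_smul _ _ _)

variable (p A B) in
/-- the derivation `g ↦ [g^(p-1) dg]` -/
def cder : Derivation A B (Nq p A B) where
  toFun g := mk p A B (g ^ (p - 1) • KaehlerDifferential.D A B g)
  map_add' g h := by
    obtain ⟨φ, hφ⟩ := exists_add p Fact.out (KaehlerDifferential.D A B) g h
    rw [hφ, map_add, mk_D, add_zero, map_add]
  map_smul' a g := by
    have h1 : p = (p - 1) + 1 := (Nat.succ_pred_eq_of_pos (Fact.out (p := p.Prime)).pos).symm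
    rw [RingHom.id_apply, algebraMap_smul_Nq, smul_mk, Derivation.map_smul, Algebra.smul_def, mul_pow,
      ← algebraMap_smul B a, smul_smul, smul_smul]
    congr 2
    conv_rhs => rw [h1]
    simp only [Nat.add_sub_cancel]
    ring
  map_one_eq_zero' := by
    change mk p A B ((1 : B) ^ (p - 1) • KaehlerDifferential.D A B 1) = 0
    rw [Derivation.map_one_eq_zero, smul_zero, map_zero]
  leibniz' g h := by
    have h1 : p = (p - 1) + 1 := (Nat.succ_pred_eq_of_pos (Fact.out (p := p.Prime)).pos).symm
    change mk p A B ((g * h) ^ (p - 1) • KaehlerDifferential.D A B (g * h)) =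
      g • mk p A B (h ^ (p - 1) • KaehlerDifferential.D A B h) +
      h • mk p A B (g ^ (p - 1) • KaehlerDifferential.D A B g)
    rw [smul_mk, smul_mk, Derivation.leibniz, ← map_add, smul_add, smul_smul, smul_smul, smul_smul,
      smul_smul]
    congr 3
    · conv_rhs => rw [h1]
      simp only [Nat.add_sub_cancel]
      ring
    · conv_rhs => rw [h1]
      simp only [Nat.add_sub_cancel]
      ring

variable (p A B) in
/-- the inverse Cartier operator, `b dg ↦ [b^p g^(p-1) dg]` -/
def cinv : Ω[B⁄A] →ₗ[B] Nq p A B := (cder p A B).liftKaehlerDifferential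

theorem cinv_D (g : B) : cinv p A B (KaehlerDifferential.D A B g) =
    mk p A B (g ^ (p - 1) • KaehlerDifferential.D A B g) :=
  (cder p A B).liftKaehlerDifferential_comp_D g

end

section nat

variable (p : ℕ) (A B B' : Type u) [CommRing A] [CommRing B] [Algebra A B] [CommRing B'] [Algebra A B']
  [Algebra B B'] [IsScalarTower A B B']

/-- the induced map on forms modulo exact forms -/
def nmap : Nq p A B →+ Nq p A B' :=
  QuotientAddGroup.map (ex A B) (ex A B') (KaehlerDifferential.map A A B B').toAddMonoidHom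
    (by
      rintro _ ⟨b, rfl⟩
      exact ⟨algebraMap B B' b, (KaehlerDifferential.map_D A A B B' b).symm⟩)

variable {p A B}

theorem nmap_mk (x : Ω[B⁄A]) : nmap p A B B' (mk p A B x) = mk p A B' (KaehlerDifferential.map A A B B' x) :=
  rfl

variable [Fact p.Prime] [CharP B p] [CharP B' p]

theorem nmap_smul (b : B) (x : Nq p A B) : nmap p A B B' (b • x) = algebraMap B B' b • nmap p A B B' x := by
  obtain ⟨x, rfl⟩ := mk_surjective x
  rw [smul_mk, nmap_mk, nmap_mk, smul_mk, map_smul, ← map_pow, algebraMap_smul]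

theorem nmap_cinv (x : Ω[B⁄A]) : nmap p A B B' (cinv p A B x) =
    cinv p A B' (KaehlerDifferential.map A A B B' x) := by
  have hx : x ∈ Submodule.span B (Set.range (KaehlerDifferential.D A B)) := by
    rw [DR.kaehler_span]; trivial
  induction hx using Submodule.span_induction with
  | mem x hx =>
    obtain ⟨g, rfl⟩ := hx
    rw [cinv_D, nmap_mk, map_smul, KaehlerDifferential.map_D, cinv_D, ← algebraMap_smul B', map_pow]
  | zero => simp only [map_zero]
  | add x y _ _ hx hy => simp only [map_add, hx, hy]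
  | smul b x _ hx =>
    rw [map_smul, nmap_smul, hx, map_smul, ← algebraMap_smul B' b (KaehlerDifferential.map A A B B' x),
      map_smul]

end nat

end K852.Cartier
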