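import Groth.Agent.DeRham.K852.Basic

/-!
# Existence of the de Rham differential on exterior powers

Given a receptacle `(M, δ)` and an additive map `θ : M → ⋀² M` with `θ (a m) = δa ∧ m + a θ m` and `θ (δ a) = 0`, there
is a family `d` satisfying the de Rham rule.
-/

set_option autoImplicit false

universe v u

open exteriorPower

namespace K852.DR

section twist

variable {R : Type v} {A M : Type u} [CommRing R] [CommRing A] [Algebra R A]
  [AddCommGroup M] [Module A M] [Module R M]

/-- The twisted double of the exterior algebra. -/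
@[ext] structure Tw (δ : Derivation R A M) where
  z : ExteriorAlgebra A M
  y : ExteriorAlgebra A M

variable {δ : Derivation R A M}

namespace Tw

noncomputable instance : Zero (Tw δ) := ⟨⟨0, 0⟩⟩
noncomputable instance : Add (Tw δ) := ⟨fun a b => ⟨a.z + b.z, a.y + b.y⟩⟩
noncomputable instance : Neg (Tw δ) := ⟨fun a => ⟨-a.z, -a.y⟩⟩
noncomputable instance : Sub (Tw δ) := ⟨fun a b => ⟨a.z - b.z, a.y - b.y⟩⟩

@[simp] theorem zero_z : (0 : Tw δ).z = 0 := rfl
@[simp] theorem zero_y : (0 : Tw δ).y = 0 := rfl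
@[simp] theorem add_z (a b : Tw δ) : (a + b).z = a.z + b.z := rfl
@[simp] theorem add_y (a b : Tw δ) : (a + b).y = a.y + b.y := rfl
@[simp] theorem neg_z (a : Tw δ) : (-a).z = -a.z := rfl
@[simp] theorem neg_y (a : Tw δ) : (-a).y = -a.y := rfl
@[simp] theorem sub_z (a b : Tw δ) : (a - b).z = a.z - b.z := rfl
@[simp] theorem sub_y (a b : Tw δ) : (a - b).y = a.y - b.y := rfl

noncomputable instance : AddCommGroup (Tw δ) where
  add_assoc a b c := by ext1 <;> simp [add_assoc]
  zero_add a := by ext1 <;> simp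
  add_zero a := by ext1 <;> simp
  add_comm a b := by ext1 <;> simp [add_comm]
  neg_add_cancel a := by ext1 <;> simp
  sub_eq_add_neg a b := by ext1 <;> simp [sub_eq_add_neg]
  nsmul := nsmulRec
  zsmul := zsmulRec

noncomputable instance : SMul A (Tw δ) :=
  ⟨fun a c => ⟨a • c.z, ExteriorAlgebra.ι A (δ a) * c.z + a • c.y⟩⟩

@[simp] theorem smul_z (a : A) (c : Tw δ) : (a • c).z = a • c.z := rfl
@[simp] theorem smul_y (a : A) (c : Tw δ) : (a • c).y = ExteriorAlgebra.ι A (δ a) * c.z + a • c.y := rfl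

noncomputable instance : Module A (Tw δ) where
  one_smul c := by ext1 <;> simp
  mul_smul a b c := by
    ext1
    · simp [mul_smul]
    · simp only [smul_y, smul_z, Derivation.leibniz, map_add, map_smul, add_mul, smul_add,
        mul_smul_comm, smul_mul_assoc, mul_smul]
      abel
  smul_zero a := by ext1 <;> simp
  smul_add a b c := by
    ext1
    · simp
    · simp only [smul_y, add_z, add_y, mul_add, smul_add]; abel
  add_smul a b c := by
    ext1
    · simp [add_smul]
    · simp only [smul_y, add_y, map_add, add_mul, add_smul]; abel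
  zero_smul c := by ext1 <;> simp

end Tw

theorem comm_of_mem_two {x : ExteriorAlgebra A M} (hx : x ∈ ⋀[A]^2 M) (m : M) :
    x * ExteriorAlgebra.ι A m = ExteriorAlgebra.ι A m * x := by
  rw [ExteriorAlgebra.exteriorPower, pow_two] at hx
  induction hx using Submodule.mul_induction_on' with
  | mem_mul_mem a ha b hb =>
    obtain ⟨a, rfl⟩ := ha
    obtain ⟨b, rfl⟩ := hb
    have h1 : ExteriorAlgebra.ι A b * ExteriorAlgebra.ι A m = -(ExteriorAlgebra.ι A m * ExteriorAlgebra.ι A b) :=
      eq_neg_of_add_eq_zero_left (ExteriorAlgebra.ι_add_mul_swap b m)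
    have h2 : ExteriorAlgebra.ι A a * ExteriorAlgebra.ι A m = -(ExteriorAlgebra.ι A m * ExteriorAlgebra.ι A a) :=
      eq_neg_of_add_eq_zero_left (ExteriorAlgebra.ι_add_mul_swap a m)
    rw [mul_assoc, h1, mul_neg, ← mul_assoc, h2, neg_mul, neg_neg, mul_assoc]
  | add a _ b _ ha hb => rw [add_mul, mul_add, ha, hb]

variable (θ : M →+ ↥(⋀[A]^2 M))
  (hθ : ∀ (a : A) (m : M), θ (a • m) = wedge1 1 (δ a) ((oneEquiv A M).symm m) + a • θ m)

include hθ in
theorem theta_coe (a : A) (m : M) : (θ (a • m) : ExteriorAlgebra A M) =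
    ExteriorAlgebra.ι A (δ a) * ExteriorAlgebra.ι A m + a • (θ m : ExteriorAlgebra A M) := by
  rw [hθ, Submodule.coe_add, Submodule.coe_smul, wedge1_coe, oneEquiv_symm_apply,
    ιMulti_apply_coe, ExteriorAlgebra.ιMulti_apply]
  simp

/-- The action of `m` on the twisted double. -/
noncomputable def actL : M →ₗ[A] Module.End A (Tw δ) where
  toFun m :=
    { toFun := fun c => ⟨ExteriorAlgebra.ι A m * c.z, (θ m : ExteriorAlgebra A M) * c.z -
        ExteriorAlgebra.ι A m * c.y⟩
      map_add' := fun a b => by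
        ext1
        · simp [mul_add]
        · simp only [Tw.add_z, Tw.add_y, mul_add]; abel
      map_smul' := fun a c => by
        ext1
        · simp
        · have h : ExteriorAlgebra.ι A m * ExteriorAlgebra.ι A (δ a) =
              -(ExteriorAlgebra.ι A (δ a) * ExteriorAlgebra.ι A m) :=
            eq_neg_of_add_eq_zero_left (ExteriorAlgebra.ι_add_mul_swap m (δ a))
          simp only [Tw.smul_z, Tw.smul_y, mul_add, mul_smul_comm, RingHom.id_apply, smul_sub,
            ← mul_assoc, h, neg_mul]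
          abel }
  map_add' m n := by
    ext c : 1
    ext1
    · change ExteriorAlgebra.ι A (m + n) * c.z = ExteriorAlgebra.ι A m * c.z + ExteriorAlgebra.ι A n * c.z
      rw [map_add, add_mul]
    · change (θ (m + n) : ExteriorAlgebra A M) * c.z - ExteriorAlgebra.ι A (m + n) * c.y =
        ((θ m : ExteriorAlgebra A M) * c.z - ExteriorAlgebra.ι A m * c.y) +
        ((θ n : ExteriorAlgebra A M) * c.z - ExteriorAlgebra.ι A n * c.y)
      rw [map_add, map_add, Submodule.coe_add, add_mul, add_mul]; abel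
  map_smul' a m := by
    ext c : 1
    ext1
    · change ExteriorAlgebra.ι A (a • m) * c.z = a • (ExteriorAlgebra.ι A m * c.z)
      rw [map_smul, smul_mul_assoc]
    · change (θ (a • m) : ExteriorAlgebra A M) * c.z - ExteriorAlgebra.ι A (a • m) * c.y =
        ExteriorAlgebra.ι A (δ a) * (ExteriorAlgebra.ι A m * c.z) +
        a • ((θ m : ExteriorAlgebra A M) * c.z - ExteriorAlgebra.ι A m * c.y)
      rw [theta_coe θ hθ, map_smul, add_mul, smul_mul_assoc, smul_mul_assoc, smul_sub, mul_assoc]
      abel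

theorem actL_apply (m : M) (c : Tw δ) : actL θ hθ m c = ⟨ExteriorAlgebra.ι A m * c.z,
    (θ m : ExteriorAlgebra A M) * c.z - ExteriorAlgebra.ι A m * c.y⟩ := rfl

theorem actL_sq (m : M) : actL θ hθ m * actL θ hθ m = 0 := by
  ext c : 1
  rw [Module.End.mul_apply, actL_apply, actL_apply]
  ext1
  · simp [← mul_assoc]
  · simp only [mul_sub, ← mul_assoc, comm_of_mem_two (θ m).2, ExteriorAlgebra.ι_sq_zero, zero_mul,
      sub_zero, sub_self]
    rfl

/-- The algebra map `Λ M → End(Tw)`. -/
noncomputable def actE : ExteriorAlgebra A M →ₐ[A] Module.End A (Tw δ) :=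
  ExteriorAlgebra.lift A ⟨actL θ hθ, actL_sq θ hθ⟩

/-- The global differential. -/
noncomputable def dE : ExteriorAlgebra A M →+ ExteriorAlgebra A M where
  toFun x := (actE θ hθ x ⟨1, 0⟩).y
  map_zero' := by rw [map_zero]; rfl
  map_add' x y := by rw [map_add]; rfl

theorem actE_z (x : ExteriorAlgebra A M) (c : Tw δ) : (actE θ hθ x c).z = x * c.z := by
  induction x using ExteriorAlgebra.induction generalizing c with
  | algebraMap r =>
    rw [AlgHom.commutes, Module.algebraMap_end_apply, Tw.smul_z, Algebra.smul_def]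
  | ι m =>
    rw [actE, ExteriorAlgebra.lift_ι_apply, actL_apply]
  | mul a b ha hb => rw [map_mul, Module.End.mul_apply, ha, hb, mul_assoc]
  | add a b ha hb => rw [map_add, LinearMap.add_apply, Tw.add_z, ha, hb, add_mul]

theorem actE_apply (x : ExteriorAlgebra A M) :
    actE θ hθ x ⟨1, 0⟩ = ⟨x, dE θ hθ x⟩ := by
  ext1
  · rw [actE_z, mul_one]
  · rfl

theorem dE_smul (a : A) (x : ExteriorAlgebra A M) :
    dE θ hθ (a • x) = ExteriorAlgebra.ι A (δ a) * x + a • dE θ hθ x := by
  change (actE θ hθ (a • x) ⟨1, 0⟩).y = _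
  rw [map_smul, LinearMap.smul_apply, actE_apply, Tw.smul_y]

theorem dE_ι_mul (m : M) (x : ExteriorAlgebra A M) :
    dE θ hθ (ExteriorAlgebra.ι A m * x) =
      (θ m : ExteriorAlgebra A M) * x - ExteriorAlgebra.ι A m * dE θ hθ x := by
  change (actE θ hθ (ExteriorAlgebra.ι A m * x) ⟨1, 0⟩).y = _
  rw [map_mul, Module.End.mul_apply, actE_apply, actE, ExteriorAlgebra.lift_ι_apply, actL_apply]

theorem dE_one : dE θ hθ 1 = 0 := by
  change (actE θ hθ 1 ⟨1, 0⟩).y = _
  rw [map_one]; rfl

theorem dE_mem (p : ℕ) (x : ExteriorAlgebra A M) (hx : x ∈ ⋀[A]^p M) :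
    dE θ hθ x ∈ ⋀[A]^(p + 1) M := by
  induction p generalizing x with
  | zero =>
    rw [ExteriorAlgebra.exteriorPower, pow_zero] at hx
    obtain ⟨a, ha⟩ := hx
    have ha : a • (1 : ExteriorAlgebra A M) = x := by simpa using ha
    rw [← ha, dE_smul, dE_one, smul_zero, add_zero, mul_one, ExteriorAlgebra.exteriorPower, zero_add,
      pow_one]
    exact ⟨_, rfl⟩
  | succ p ih =>
    rw [ExteriorAlgebra.exteriorPower, pow_succ'] at hx
    induction hx using Submodule.mul_induction_on' with
    | mem_mul_mem m hm y hy =>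
      obtain ⟨m, rfl⟩ := hm
      rw [dE_ι_mul]
      refine Submodule.sub_mem _ ?_ ?_
      · have h2 : (θ m : ExteriorAlgebra A M) ∈ (LinearMap.range (ExteriorAlgebra.ι A (M := M))) ^ 2 :=
          (θ m).2
        have := Submodule.mul_mem_mul h2 hy
        rw [← pow_add] at this
        have h3 : 2 + p = p + 1 + 1 := by omega
        rwa [h3] at this
      · rw [ExteriorAlgebra.exteriorPower, pow_succ']
        exact Submodule.mul_mem_mul ⟨m, rfl⟩ (ih y hy)
    | add x _ y _ hx hy => rw [map_add]; exact Submodule.add_mem _ hx hy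

variable [IsScalarTower R A M]

/-- The family of differentials built from `θ`. -/
noncomputable def dFam (p : ℕ) : ↥(⋀[A]^p M) →ₗ[R] ↥(⋀[A]^(p + 1) M) where
  toFun x := ⟨dE θ hθ x, dE_mem θ hθ p x x.2⟩
  map_add' x y := by ext; simp
  map_smul' r x := by
    apply Subtype.ext
    change dE θ hθ (r • (x : ExteriorAlgebra A M)) = r • dE θ hθ x
    rw [← algebraMap_smul A r (x : ExteriorAlgebra A M), dE_smul, Derivation.map_algebraMap, map_zero,
      zero_mul, zero_add, algebraMap_smul]

theorem dFam_coe (p : ℕ) (x : ↥(⋀[A]^p M)) :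
    (dFam θ hθ p x : ExteriorAlgebra A M) = dE θ hθ x := rfl

theorem isRule_dFam (hθ0 : ∀ a : A, θ (δ a) = 0) : DeRham.IsRule δ (dFam θ hθ) := by
  have h0 : ∀ (p : ℕ) (b : Fin p → A),
      dE θ hθ (ιMulti A p (fun i => δ (b i)) : ↥(⋀[A]^p M)) = 0 := by
    intro p
    induction p with
    | zero =>
      intro b
      rw [ιMulti_apply_coe, ExteriorAlgebra.ιMulti_apply]
      simp [dE_one]
    | succ p ih =>
      intro b
      rw [ιMulti_succ, wedge1_coe, dE_ι_mul, hθ0, ih]
      simp
  intro p b₀ b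
  apply Subtype.ext
  rw [dFam_coe, DeRham.gen, Submodule.coe_smul, dE_smul, h0, smul_zero, add_zero, ιMulti_cons, wedge1_coe]

end twist

end K852.DR
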