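import Groth.Agent.S2795
import Groth.Agent.DeRham.K852.Exist

/-!
# Existence of the de Rham differential on the exterior powers of the Kähler differentials
-/

set_option autoImplicit false

universe u

open exteriorPower

namespace K852.DR

/-- Kähler differentials carry a de Rham differential. -/
theorem exists_isDiff (A B : Type u) [CommRing A] [CommRing B] [Algebra A B] :
    ∃ d : ∀ q : ℕ, ↥(⋀[B]^q (Ω[B⁄A])) →ₗ[A] ↥(⋀[B]^(q + 1) (Ω[B⁄A])),
      DeRham.IsDiff (KaehlerDifferential.D A B) d := by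
  obtain ⟨e, ⟨hdd, hdB, hleib⟩, -⟩ := Groth.Agent.S2795.result A B
  have h0 : ∀ b : B, algebraMap B (ExteriorAlgebra B (Ω[B⁄A])) b ∈
      ExteriorAlgebra.exteriorPower B 0 (Ω[B⁄A]) := by
    intro b
    rw [ExteriorAlgebra.exteriorPower, pow_zero]
    exact ⟨b, by simp [Algebra.algebraMap_eq_smul_one]⟩
  have h1 : ∀ m : Ω[B⁄A], ExteriorAlgebra.ι B m ∈ ExteriorAlgebra.exteriorPower B 1 (Ω[B⁄A]) := by
    intro m
    rw [ExteriorAlgebra.exteriorPower, pow_one]
    exact ⟨m, rfl⟩
  have hsm : ∀ (b : B) (m : Ω[B⁄A]), e (ExteriorAlgebra.ι B (b • m)) =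
      ExteriorAlgebra.ι B (KaehlerDifferential.D A B b) * ExteriorAlgebra.ι B m +
        b • e (ExteriorAlgebra.ι B m) := by
    intro b m
    rw [map_smul, Algebra.smul_def, hleib 0 1 _ _ (h0 b) (h1 m), hdB, pow_zero, one_smul,
      Algebra.smul_def]
  have hmem : ∀ m : Ω[B⁄A], e (ExteriorAlgebra.ι B m) ∈ ⋀[B]^2 (Ω[B⁄A]) := by
    intro m
    have hm : m ∈ Submodule.span B (Set.range (KaehlerDifferential.D A B)) := by
      rw [kaehler_span]; trivial
    induction hm using Submodule.span_induction with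
    | mem m hm =>
      obtain ⟨b, rfl⟩ := hm
      rw [← hdB, hdd]
      exact zero_mem _
    | zero => rw [map_zero, map_zero]; exact zero_mem _
    | add x y _ _ hx hy => rw [map_add, map_add]; exact add_mem hx hy
    | smul b x _ hx =>
      rw [hsm]
      refine add_mem ?_ (Submodule.smul_mem _ _ hx)
      rw [ExteriorAlgebra.exteriorPower, pow_two]
      exact Submodule.mul_mem_mul ⟨_, rfl⟩ ⟨_, rfl⟩
  let θ : Ω[B⁄A] →+ ↥(⋀[B]^2 (Ω[B⁄A])) :=
    { toFun := fun m => ⟨e (ExteriorAlgebra.ι B m), hmem m⟩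
      map_zero' := by ext; simp
      map_add' := fun x y => by ext; simp }
  have hθ : ∀ (a : B) (m : Ω[B⁄A]), θ (a • m) =
      wedge1 1 (KaehlerDifferential.D A B a) ((oneEquiv B (Ω[B⁄A])).symm m) + a • θ m := by
    intro a m
    apply Subtype.ext
    change e (ExteriorAlgebra.ι B (a • m)) = _
    rw [hsm, Submodule.coe_add, Submodule.coe_smul, wedge1_coe, oneEquiv_symm_apply,
      ιMulti_apply_coe, ExteriorAlgebra.ιMulti_apply]
    simp [θ]
  refine ⟨dFam θ hθ, isDiff_of_isRule (kaehler_span A B) (isRule_dFam θ hθ ?_)⟩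
  intro a
  apply Subtype.ext
  change e (ExteriorAlgebra.ι B (KaehlerDifferential.D A B a)) = _
  rw [← hdB, hdd]
  rfl

end K852.DR
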