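import Groth.Agent.DeRham.K852.Basic
import Groth.Agent.Dual.H366.ExtLoc
import Mathlib.RingTheory.Kaehler.TensorProduct
import Mathlib.RingTheory.Etale.Kaehler
import Mathlib.LinearAlgebra.ExteriorAlgebra.Grading

/-!
# Maps of de Rham complexes: existence, compatibility with `d`, base change of exterior powers
-/

set_option autoImplicit false

universe v u v' u'

open exteriorPower
open scoped TensorProduct
open Groth.Agent.Krr.H495.ExtSemi

namespace K852.DR

section Maps

variable {R : Type v} {A M : Type u} {R' : Type v'} {A' M' : Type u'} [CommRing R] [CommRing A]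
  [Algebra R A] [AddCommGroup M] [Module A M] [Module R M]
  [CommRing R'] [CommRing A'] [Algebra R' A']
  [AddCommGroup M'] [Module A' M'] [Module R' M']
  {δ : Derivation R A M} {δ' : Derivation R' A' M'} {g : A →+* A'}

/-- the additive family induced by a semilinear map of receptacles -/
noncomputable def psi (f : M →ₛₗ[g] M') (p : ℕ) : ↥(⋀[A]^p M) →+ ↥(⋀[A']^p M') :=
  (extS p f).toAddMonoidHom

theorem psi_apply (f : M →ₛₗ[g] M') (p : ℕ) (x : ↥(⋀[A]^p M)) : psi f p x = extS p f x := rfl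

theorem isCxMap_psi (f : M →ₛₗ[g] M') (hf : ∀ a, f (δ a) = δ' (g a)) :
    DeRham.IsCxMap δ δ' g (psi f) := by
  intro p b₀ b
  rw [psi_apply, DeRham.gen, DeRham.gen, LinearMap.map_smulₛₗ, extS_ιMulti]
  simp only [hf]

theorem isCxMap_unique (hgen : Submodule.span A (Set.range δ) = ⊤)
    {ψ ψ' : ∀ p : ℕ, ↥(⋀[A]^p M) →+ ↥(⋀[A']^p M')}
    (h : DeRham.IsCxMap δ δ' g ψ) (h' : DeRham.IsCxMap δ δ' g ψ') (p : ℕ) : ψ p = ψ' p :=
  gen_ext δ hgen p _ _ fun b₀ b => by rw [h p b₀ b, h' p b₀ b]

theorem isCxMap_eq_extS (hgen : Submodule.span A (Set.range δ) = ⊤)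
    {ψ : ∀ p : ℕ, ↥(⋀[A]^p M) →+ ↥(⋀[A']^p M')}
    (h : DeRham.IsCxMap δ δ' g ψ) (f : M →ₛₗ[g] M') (hf : ∀ a, f (δ a) = δ' (g a)) (p : ℕ)
    (x : ↥(⋀[A]^p M)) : ψ p x = extS p f x := by
  rw [isCxMap_unique hgen h (isCxMap_psi (δ' := δ') f hf) p, psi_apply]

theorem isCxMap_smul (hgen : Submodule.span A (Set.range δ) = ⊤)
    {ψ : ∀ p : ℕ, ↥(⋀[A]^p M) →+ ↥(⋀[A']^p M')}
    (h : DeRham.IsCxMap δ δ' g ψ) (p : ℕ) (a : A)
    (x : ↥(⋀[A]^p M)) : ψ p (a • x) = g a • ψ p x := by
  refine gen_induction δ hgen p (P := fun x => ψ p (a • x) = g a • ψ p x) ?_ ?_ ?_ ?_ x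
  · intro b₀ b
    rw [smul_gen, h p, h p, smul_gen, map_mul]
  · simp
  · intro x y hx hy; rw [smul_add, map_add, hx, hy, map_add, smul_add]
  · intro x hx; rw [smul_neg, map_neg, hx, map_neg, smul_neg]

theorem isCxMap_wedge1 (hgen : Submodule.span A (Set.range δ) = ⊤)
    {ψ : ∀ p : ℕ, ↥(⋀[A]^p M) →+ ↥(⋀[A']^p M')}
    (h : DeRham.IsCxMap δ δ' g ψ) (p : ℕ) (a : A)
    (x : ↥(⋀[A]^p M)) : ψ (p + 1) (wedge1 p (δ a) x) = wedge1 p (δ' (g a)) (ψ p x) := by
  refine gen_induction δ hgen p (P := fun x => ψ (p + 1) (wedge1 p (δ a) x) =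
    wedge1 p (δ' (g a)) (ψ p x)) ?_ ?_ ?_ ?_ x
  · intro b₀ b
    have h1 : wedge1 p (δ a) (DeRham.gen δ p b₀ b) = DeRham.gen δ (p + 1) b₀ (Fin.cons a b) := by
      rw [DeRham.gen, DeRham.gen, map_smul, wedge1_ιMulti]
      congr 2
      funext i
      refine Fin.cases ?_ (fun i => ?_) i <;> simp
    rw [h1, h, h, DeRham.gen, DeRham.gen, ιMulti_succ, map_smul]
    simp
  · simp
  · intro x y hx hy; rw [map_add, map_add, hx, hy, map_add, map_add]
  · intro x hx; rw [map_neg, map_neg, hx, map_neg, map_neg]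

theorem isCxMap_comm [IsScalarTower R A M] [IsScalarTower R' A' M']
    (hgen : Submodule.span A (Set.range δ) = ⊤)
    {d : ∀ p : ℕ, ↥(⋀[A]^p M) →ₗ[R] ↥(⋀[A]^(p + 1) M)}
    {d' : ∀ p : ℕ, ↥(⋀[A']^p M') →ₗ[R'] ↥(⋀[A']^(p + 1) M')}
    (hd : DeRham.IsRule δ d) (hd' : DeRham.IsRule δ' d')
    {ψ : ∀ p : ℕ, ↥(⋀[A]^p M) →+ ↥(⋀[A']^p M')}
    (h : DeRham.IsCxMap δ δ' g ψ) (p : ℕ) (x : ↥(⋀[A]^p M)) : ψ (p + 1) (d p x) = d' p (ψ p x) := by
  refine gen_induction δ hgen p (P := fun x => ψ (p + 1) (d p x) = d' p (ψ p x)) ?_ ?_ ?_ ?_ x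
  · intro b₀ b
    rw [d_gen hd, isCxMap_wedge1 hgen h, h p, d_gen hd']
    congr 1
    have := h p 1 b
    rwa [DeRham.gen, DeRham.gen, map_one, one_smul, one_smul] at this
  · simp
  · intro x y hx hy; rw [map_add, map_add, hx, hy, map_add, map_add]
  · intro x hx; rw [map_neg, map_neg, hx, map_neg, map_neg]

end Maps

section Kaehler

variable (R S A B : Type*) [CommRing R] [CommRing S] [CommRing A] [CommRing B]
    [Algebra R S] [Algebra R A] [Algebra R B] [Algebra A B] [Algebra S B]
    [IsScalarTower R A B] [IsScalarTower R S B]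

theorem smulComm : SMulCommClass S A B where
  smul_comm s a b := by
    rw [Algebra.smul_def, Algebra.smul_def, Algebra.smul_def, Algebra.smul_def]; ring

/-- The semilinear map on differentials attached to a commutative square of rings. -/
noncomputable def omSemi : Ω[A⁄R] →ₛₗ[algebraMap A B] Ω[B⁄S] :=
  haveI := smulComm S A B
  { toFun := KaehlerDifferential.map R S A B
    map_add' := map_add _
    map_smul' := fun a x => by rw [map_smul, ← algebraMap_smul B a] }

theorem omSemi_D (a : A) :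
    omSemi R S A B (KaehlerDifferential.D R A a) = KaehlerDifferential.D S B (algebraMap A B a) := by
  have := smulComm S A B
  exact KaehlerDifferential.map_D R S A B a

end Kaehler

section BaseChange

variable {A B : Type*} [CommRing A] [CommRing B] [Algebra A B]
  {M N : Type*} [AddCommGroup M] [Module A M] [AddCommGroup N] [Module A N] [Module B N]
  [IsScalarTower A B N]

open Groth.Agent.Dual.H366.ExtLoc

/-- projection of the exterior algebra on a graded piece, a retraction of the inclusion -/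
theorem exists_retraction (i : ℕ) :
    ∃ r : ExteriorAlgebra A M →ₗ[A] ↥(⋀[A]^i M), ∀ x : ↥(⋀[A]^i M), r x = x := by
  refine ⟨(DirectSum.component A ℕ (fun i => ↥(⋀[A]^i M)) i) ∘ₗ
    (DirectSum.decomposeLinearEquiv (fun i : ℕ => ⋀[A]^i M)).toLinearMap, fun x => ?_⟩
  simp only [LinearMap.comp_apply, LinearEquiv.coe_coe, DirectSum.decomposeLinearEquiv_apply,
    DirectSum.decompose_coe]
  exact DirectSum.component.lof_self A (M := fun i => ↥(⋀[A]^i M)) i x

/-- Exterior powers commute with base change. -/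
theorem bijective_lift_extS {f : M →ₗ[A] N} (hf : IsBaseChange B f) (i : ℕ)
    (Φ : B ⊗[A] ↥(⋀[A]^i M) →+ ↥(⋀[B]^i N))
    (hΦ : ∀ b x, Φ (b ⊗ₜ[A] x) = b • extS i (semi (B := B) f) x) : Function.Bijective Φ := by
  constructor
  · -- injectivity
    obtain ⟨r, hr⟩ := exists_retraction (A := A) (M := M) i
    have h1 : ∀ z : B ⊗[A] ↥(⋀[A]^i M),
        (r.baseChange B) (algHom hf (Φ z : ExteriorAlgebra B N)) = z := by
      intro z
      induction z with
      | zero => simp
      | add x y hx hy => rw [map_add, Submodule.coe_add, map_add, map_add, hx, hy]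
      | tmul b x =>
        rw [hΦ, Submodule.coe_smul, map_smul, algHom_extS, map_smul, LinearMap.baseChange_tmul, hr,
          TensorProduct.smul_tmul', smul_eq_mul, mul_one]
    exact fun z w hzw => by rw [← h1 z, ← h1 w, hzw]
  · -- surjectivity
    intro y
    have hspan : Submodule.span B (Set.range f) = ⊤ := by
      rw [eq_top_iff]
      rintro n -
      induction n using hf.inductionOn with
      | zero => exact zero_mem _
      | tmul m => exact Submodule.subset_span ⟨m, rfl⟩
      | smul b x hx => exact Submodule.smul_mem _ b hx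
      | add x y hx hy => exact add_mem hx hy
    have hy : y ∈ Submodule.span B (ιMulti B i '' {a | Set.range a ⊆ Set.range f}) := by
      rw [ιMulti_span_of_span B i N hspan]; trivial
    rw [Submodule.mem_span_set'] at hy
    obtain ⟨n, c, v, hcv⟩ := hy
    have hv : ∀ k, ∃ x : ↥(⋀[A]^i M), extS i (semi (B := B) f) x = v k := by
      intro k
      obtain ⟨a, ha, hva⟩ := (v k).2
      have : ∀ j, ∃ m, f m = a j := fun j => ha ⟨j, rfl⟩
      choose m hm using this
      refine ⟨ιMulti A i m, ?_⟩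
      rw [extS_ιMulti, ← hva]
      congr 1
      funext j
      exact hm j
    choose x hx using hv
    refine ⟨∑ k, c k ⊗ₜ[A] x k, ?_⟩
    rw [map_sum, ← hcv]
    refine Finset.sum_congr rfl fun k _ => ?_
    rw [hΦ, hx]

end BaseChange

section KaehlerBaseChange

variable (R S A B : Type*) [CommRing R] [CommRing S] [CommRing A] [CommRing B]
    [Algebra R S] [Algebra R A] [Algebra R B] [Algebra A B] [Algebra S B]
    [IsScalarTower R A B] [IsScalarTower R S B]

open Groth.Agent.Dual.H366.ExtLoc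

theorem isBaseChange_map_kaehler [SMulCommClass S A B] [Algebra.IsPushout R S A B] :
    IsBaseChange B (KaehlerDifferential.map R S A B) := by
  have h : (KaehlerDifferential.map R S A B) =
      ((KaehlerDifferential.tensorKaehlerEquiv R S A B).toLinearMap.restrictScalars A) ∘ₗ
        (TensorProduct.mk A B (Ω[A⁄R]) 1) := by
    apply Derivation.liftKaehlerDifferential_unique
    ext a
    simp
  rw [h]
  exact (TensorProduct.isBaseChange A (Ω[A⁄R]) B).comp
    (IsBaseChange.ofEquiv (KaehlerDifferential.tensorKaehlerEquiv R S A B))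

end KaehlerBaseChange

end K852.DR
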