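import Groth.Agent.DeRham.K852.EtFrob
import Groth.Agent.DeRham.K852.KaehlerExist
import Groth.Agent.DeRham.K852.Maps
import Mathlib.RingTheory.Unramified.LocalStructure

/-!
# The Cartier isomorphism in degree one for smooth algebras
-/

set_option autoImplicit false
set_option linter.unusedSectionVars false

universe u

open TensorProduct FrobAlg exteriorPower

namespace K852.Cartier

open K852.DR K852.EtFrob

section closed

variable (A B : Type u) [CommRing A] [CommRing B] [Algebra A B]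

/-- closed one-forms, for any (equivalently every) de Rham differential -/
def Closed (x : Ω[B⁄A]) : Prop :=
  ∀ d : ∀ q : ℕ, ↥(⋀[B]^q (Ω[B⁄A])) →ₗ[A] ↥(⋀[B]^(q + 1) (Ω[B⁄A])),
    DeRham.IsRule (KaehlerDifferential.D A B) d → d 1 ((oneEquiv B (Ω[B⁄A])).symm x) = 0

variable {A B}

theorem rule_unique {d d' : ∀ q : ℕ, ↥(⋀[B]^q (Ω[B⁄A])) →ₗ[A] ↥(⋀[B]^(q + 1) (Ω[B⁄A]))}
    (hd : DeRham.IsRule (KaehlerDifferential.D A B) d) (hd' : DeRham.IsRule (KaehlerDifferential.D A B) d')
    (q : ℕ) (x : ↥(⋀[B]^q (Ω[B⁄A]))) : d q x = d' q x := by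
  have := gen_ext (KaehlerDifferential.D A B) (kaehler_span A B) q (d q).toAddMonoidHom
    (d' q).toAddMonoidHom (fun b₀ b => by
      change d q _ = d' q _
      rw [hd, hd'])
  exact DFunLike.congr_fun this x

theorem closed_iff {d : ∀ q : ℕ, ↥(⋀[B]^q (Ω[B⁄A])) →ₗ[A] ↥(⋀[B]^(q + 1) (Ω[B⁄A]))}
    (hd : DeRham.IsRule (KaehlerDifferential.D A B) d) (x : Ω[B⁄A]) :
    Closed A B x ↔ d 1 ((oneEquiv B (Ω[B⁄A])).symm x) = 0 := by
  refine ⟨fun h => h d hd, fun h d' hd' => ?_⟩
  rw [rule_unique hd' hd, h]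

theorem Closed.map {x : Ω[B⁄A]} (hx : Closed A B x) (B' : Type u) [CommRing B'] [Algebra A B']
    [Algebra B B'] [IsScalarTower A B B'] : Closed A B' (KaehlerDifferential.map A A B B' x) := by
  obtain ⟨d, hd⟩ := exists_isDiff A B
  obtain ⟨d', hd'⟩ := exists_isDiff A B'
  rw [closed_iff hd'.1]
  rw [closed_iff hd.1] at hx
  have hψ := isCxMap_psi (δ := KaehlerDifferential.D A B) (δ' := KaehlerDifferential.D A B')
    (omSemi A A B B') (omSemi_D A A B B')
  have h1 := isCxMap_comm (kaehler_span A B) hd.1 hd'.1 hψ 1 ((oneEquiv B (Ω[B⁄A])).symm x)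
  rw [hx, map_zero, psi_apply, oneEquiv_symm_apply, Groth.Agent.Krr.H495.ExtSemi.extS_ιMulti] at h1
  rw [oneEquiv_symm_apply]
  exact h1.symm

end closed

section std

variable (p : ℕ) [Fact p.Prime] (A S : Type u) [CommRing A] [CharP A p] [PerfectRing A p]
  [CommRing S] [CharP S p] (n : ℕ)
  [Algebra (MvPolynomial (Fin n) A) S] [Algebra.Etale (MvPolynomial (Fin n) A) S]
  [Algebra A S] [IsScalarTower A (MvPolynomial (Fin n) A) S]

theorem mk_std (c : Fin n → S) : mk p A S (oneEquiv S (Ω[S⁄A]) (std p A S n c)) =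
    cinv p A S (∑ j, c j • bas A S n j) := by
  rw [std, map_sum, map_sum, map_sum]
  refine Finset.sum_congr rfl fun j _ => ?_
  rw [map_smul, e1_eq, LinearEquiv.apply_symm_apply, (cinv p A S).map_smul, bas_apply, cinv_D, smul_mk,
    mul_smul]

theorem oneEquiv_d_zero {d : ∀ q : ℕ, ↥(⋀[S]^q (Ω[S⁄A])) →ₗ[A] ↥(⋀[S]^(q + 1) (Ω[S⁄A]))}
    (hd : DeRham.IsRule (KaehlerDifferential.D A S) d) (b : S) :
    d 0 (b • e0 A S) = (oneEquiv S (Ω[S⁄A])).symm (KaehlerDifferential.D A S b) := by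
  have h3 : b • e0 A S = DeRham.gen (KaehlerDifferential.D A S) 0 b (fun i => i.elim0) := by
    rw [DeRham.gen, e0]
    congr 2
    funext i
    exact i.elim0
  rw [h3, hd, oneEquiv_symm_apply]
  congr 1
  funext i
  fin_cases i
  rfl

include n in
theorem local_injective (η : Ω[S⁄A]) (h : cinv p A S η = 0) : η = 0 := by
  obtain ⟨d, hd⟩ := exists_isDiff A S
  obtain ⟨c, h1⟩ : ∃ c : Fin n → S, ∑ j, c j • bas A S n j = η := ⟨_, (bas A S n).sum_repr η⟩
  rw [← h1, ← mk_std, mk_eq_zero_iff, mem_ex] at h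
  obtain ⟨b, hb⟩ := h
  have h2 : c = 0 := by
    apply std_exact (p := p) hd c b
    rw [oneEquiv_d_zero A S hd.1, hb, LinearEquiv.symm_apply_apply]
  rw [← h1, h2]
  simp

include n in
theorem local_surjective (ω : Ω[S⁄A]) (h : Closed A S ω) : ∃ η, cinv p A S η = mk p A S ω := by
  obtain ⟨d, hd⟩ := exists_isDiff A S
  rw [closed_iff hd.1] at h
  obtain ⟨c, b, hcb⟩ := exists_std (p := p) (n := n) hd _ h
  refine ⟨∑ j, c j • bas A S n j, ?_⟩
  have h2 : ω = oneEquiv S (Ω[S⁄A]) (std p A S n c) + KaehlerDifferential.D A S b := by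
    have h3 := congrArg (oneEquiv S (Ω[S⁄A])) hcb
    rwa [oneEquiv_d_zero A S hd.1, map_add, LinearEquiv.apply_symm_apply,
      LinearEquiv.apply_symm_apply] at h3
  rw [← mk_std, h2, map_add, mk_D, add_zero]

end std

section glob

variable (p : ℕ) [Fact p.Prime] (A B : Type u) [CommRing A] [CharP A p] [PerfectRing A p]
  [CommRing B] [CharP B p] [Algebra A B]

variable {p A B} in
/-- classes dying in the localization are killed by a power -/
theorem exists_pow_smul_eq_zero (f : B) (B' : Type u) [CommRing B'] [CharP B' p] [Algebra A B']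
    [Algebra B B'] [IsScalarTower A B B'] [IsLocalization.Away f B'] (x : Nq p A B)
    (hx : nmap p A B B' x = 0) : ∃ N : ℕ, f ^ N • x = 0 := by
  obtain ⟨ξ, rfl⟩ := mk_surjective x
  rw [nmap_mk, mk_eq_zero_iff, mem_ex] at hx
  obtain ⟨g, hg⟩ := hx
  obtain ⟨⟨g', ⟨_, k, rfl⟩⟩, hk⟩ := IsLocalization.surj (Submonoid.powers f) g
  simp only at hk
  have hpk : ∃ g'' : B, algebraMap B B' ((f ^ k) ^ p) * g = algebraMap B B' g'' := by
    have h5 : p = (p - 1) + 1 := (Nat.succ_pred_eq_of_pos (Fact.out (p := p.Prime)).pos).symm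
    refine ⟨(f ^ k) ^ (p - 1) * g', ?_⟩
    conv_lhs => rw [h5]
    rw [pow_succ, map_mul, map_mul, mul_assoc, ← hk]
    ring
  obtain ⟨g'', hg''⟩ := hpk
  have h1 : KaehlerDifferential.map A A B B' ((f ^ k) ^ p • ξ - KaehlerDifferential.D A B g'') = 0 := by
    rw [map_sub, map_smul, ← hg, KaehlerDifferential.map_D, ← hg'', map_pow, ← pow_smul_D, ← map_pow,
      algebraMap_smul, sub_self]
  rw [IsLocalizedModule.eq_zero_iff (Submonoid.powers f)] at h1
  obtain ⟨⟨_, m, rfl⟩, hm⟩ := h1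
  have h2 : (f ^ m) • mk p A B ((f ^ k) ^ p • ξ - KaehlerDifferential.D A B g'') = 0 := by
    have h5 : p = (p - 1) + 1 := (Nat.succ_pred_eq_of_pos (Fact.out (p := p.Prime)).pos).symm
    have hm' : f ^ m • ((f ^ k) ^ p • ξ - KaehlerDifferential.D A B g'') = 0 := hm
    rw [smul_mk, h5, pow_succ, mul_smul, ← h5, hm', smul_zero, map_zero]
  refine ⟨m + k, ?_⟩
  rw [map_sub, mk_D, sub_zero, ← smul_mk, smul_smul, ← pow_add] at h2
  exact h2

variable [Algebra.Smooth A B]

/-- étale coordinates near a prime -/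
theorem exists_coord (Q : Ideal B) [Q.IsPrime] : ∃ f ∉ Q, ∃ (n : ℕ)
    (_ : Algebra (MvPolynomial (Fin n) A) (Localization.Away f)),
      IsScalarTower A (MvPolynomial (Fin n) A) (Localization.Away f) ∧
      Algebra.Etale (MvPolynomial (Fin n) A) (Localization.Away f) ∧ CharP (Localization.Away f) p := by
  obtain ⟨f, hf, n, i1, i2, i3⟩ := Algebra.IsSmoothAt.exists_isStandardEtale_mvPolynomial (R := A) (S := B)
    (p := Q)
  refine ⟨f, hf, n, i1, i2, inferInstance, ?_⟩
  have hnt : Nontrivial (Localization.Away f) := by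
    by_contra h
    rw [not_nontrivial_iff_subsingleton] at h
    have h1 : algebraMap B (Localization.Away f) 1 = algebraMap B (Localization.Away f) 0 :=
      Subsingleton.elim _ _
    rw [IsLocalization.eq_iff_exists (Submonoid.powers f)] at h1
    obtain ⟨⟨_, k, rfl⟩, hk⟩ := h1
    simp only [mul_one, mul_zero] at hk
    apply hf
    apply Ideal.IsPrime.mem_of_pow_mem (I := Q) inferInstance k
    rw [hk]
    exact zero_mem _
  rw [CharP.charP_iff_prime_eq_zero (Fact.out (p := p.Prime)), ← map_natCast (algebraMap B _),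
    CharP.cast_eq_zero, map_zero]

theorem cinv_injective (η : Ω[B⁄A]) (h : cinv p A B η = 0) : η = 0 := by
  by_contra hne
  let J : Ideal B := LinearMap.ker (LinearMap.toSpanSingleton B (Ω[B⁄A]) η)
  have hJ : J ≠ ⊤ := by
    intro hJ
    have : (1 : B) ∈ J := by rw [hJ]; trivial
    rw [LinearMap.mem_ker, LinearMap.toSpanSingleton_apply, one_smul] at this
    exact hne this
  obtain ⟨Q, hQ, hJQ⟩ := Ideal.exists_le_maximal J hJ
  obtain ⟨f, hf, n, i1, i2, i3, i4⟩ := exists_coord p A B Q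
  have h1 : KaehlerDifferential.map A A B (Localization.Away f) η = 0 := by
    apply local_injective p A (Localization.Away f) n
    rw [← nmap_cinv, h, map_zero]
  rw [IsLocalizedModule.eq_zero_iff (Submonoid.powers f)] at h1
  obtain ⟨⟨_, m, rfl⟩, hm⟩ := h1
  exact hf (hQ.isPrime.mem_of_pow_mem m (hJQ hm))

theorem cinv_surjective (ω : Ω[B⁄A]) (h : Closed A B ω) : ∃ η, cinv p A B η = mk p A B ω := by
  by_contra hne
  let J : Ideal B := Submodule.comap (LinearMap.toSpanSingleton B (Nq p A B) (mk p A B ω))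
    (LinearMap.range (cinv p A B))
  have hJ : J ≠ ⊤ := by
    intro hJ
    have : (1 : B) ∈ J := by rw [hJ]; trivial
    rw [Submodule.mem_comap, LinearMap.toSpanSingleton_apply, one_smul] at this
    exact hne this
  obtain ⟨Q, hQ, hJQ⟩ := Ideal.exists_le_maximal J hJ
  obtain ⟨f, hf, n, i1, i2, i3, i4⟩ := exists_coord p A B Q
  obtain ⟨η', hη'⟩ := local_surjective p A (Localization.Away f) n _ (h.map (Localization.Away f))
  obtain ⟨⟨η, ⟨_, k, rfl⟩⟩, hk⟩ := IsLocalizedModule.surj (Submonoid.powers f)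
    (KaehlerDifferential.map A A B (Localization.Away f)) η'
  have hk' : f ^ k • η' = KaehlerDifferential.map A A B (Localization.Away f) η := hk
  have h1 : nmap p A B (Localization.Away f) (f ^ k • mk p A B ω - cinv p A B η) = 0 := by
    rw [map_sub, nmap_smul, nmap_mk, ← hη', nmap_cinv, ← hk',
      ← algebraMap_smul (Localization.Away f) (f ^ k) η', map_smul, sub_self]
  obtain ⟨N, hN⟩ := exists_pow_smul_eq_zero f (Localization.Away f) _ h1
  rw [smul_sub, sub_eq_zero, smul_smul, ← pow_add, ← (cinv p A B).map_smul] at hN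
  refine hf (hQ.isPrime.mem_of_pow_mem (N + k) (hJQ ?_))
  rw [Submodule.mem_comap, LinearMap.toSpanSingleton_apply, hN]
  exact ⟨_, rfl⟩

end glob

end K852.Cartier
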