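import Groth.Agent.DeRham.K852.Maps
import Mathlib.Data.Finset.Sort

/-!
# Lifting forms through coordinate hyperplanes
-/

set_option autoImplicit false
universe u

open exteriorPower

namespace K852.Cech

open K852.DR

section top

variable {A : Type*} {M : Type*} [CommRing A] [AddCommGroup M] [Module A M]

/-- The top exterior power of a module generated by `v₀, …, v_{m-1}` is generated by their wedge. -/
theorem span_top {m : ℕ} (v : Fin m → M) (hv : Submodule.span A (Set.range v) = ⊤)
    (x : ↥(⋀[A]^m M)) : ∃ a : A, x = a • ιMulti A m v := by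
  have h1 : x ∈ Submodule.span A (ιMulti A m '' {a | Set.range a ⊆ Set.range v}) := by
    rw [ιMulti_span_of_span A m M hv]; trivial
  have h2 : Submodule.span A (ιMulti A m '' {a | Set.range a ⊆ Set.range v}) ≤
      Submodule.span A {ιMulti A m v} := by
    rw [Submodule.span_le]
    rintro _ ⟨a, ha, rfl⟩
    have : ∀ j, ∃ i, v i = a j := fun j => ha ⟨j, rfl⟩
    choose σ hσ using this
    have hav : a = v ∘ σ := by funext j; exact (hσ j).symm
    rw [hav]
    by_cases hinj : Function.Injective σ
    · have hbij : Function.Bijective σ := Finite.injective_iff_bijective.mp hinj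
      have := (ιMulti A m).map_perm v (Equiv.ofBijective σ hbij)
      have h3 : (v ∘ ⇑(Equiv.ofBijective σ hbij)) = v ∘ σ := rfl
      rw [h3] at this
      rw [this, SetLike.mem_coe]
      rcases Int.units_eq_one_or (Equiv.Perm.sign (Equiv.ofBijective σ hbij)) with h | h
      · rw [h, one_smul]; exact Submodule.mem_span_singleton_self _
      · rw [h, Units.neg_smul, one_smul]; exact neg_mem (Submodule.mem_span_singleton_self _)
    · have : ιMulti A m (v ∘ σ) = 0 :=
        AlternatingMap.map_eq_zero_of_not_injective _ _ fun h => hinj h.of_comp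
      rw [this]
      exact zero_mem _
  have h3 := h2 h1
  rw [Submodule.mem_span_singleton] at h3
  obtain ⟨a, ha⟩ := h3
  exact ⟨a, ha.symm⟩

end top

section coord

variable {k : Type u} [CommRing k] {A : Type u} [CommRing A] [Algebra k A]
  {d n : ℕ} (t : Fin d → A) (e : Fin n ↪ Fin d)

/-- the coordinate ring of the intersection of the hyperplanes in `I` -/
abbrev QI (I : Finset (Fin n)) : Type u := A ⧸ (⨆ i ∈ I, Ideal.span {t (e i)} : Ideal A)

/-- the quotient map -/
abbrev mkI (I : Finset (Fin n)) : A →+* QI t e I := Ideal.Quotient.mk _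

theorem mkI_eq_zero {I : Finset (Fin n)} {i : Fin n} (hi : i ∈ I) : mkI t e I (t (e i)) = 0 := by
  rw [Ideal.Quotient.eq_zero_iff_mem]
  exact (le_iSup₂_of_le (f := fun i (_ : i ∈ I) => Ideal.span {t (e i)}) i hi le_rfl)
    (Ideal.subset_span rfl)

theorem factor_mkI {I J : Finset (Fin n)} (h : I ⊆ J) (a : A) :
    (Ideal.Quotient.factor (biSup_mono (f := fun i => Ideal.span {t (e i)}) h) :
      QI t e I →+* QI t e J) (mkI t e I a) = mkI t e J a := rfl

variable (k) in
/-- the differentials `d t_i`, `i` not in `e(J)`, generate `Ω` of the quotient ring -/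
theorem span_D_compl (hb : Submodule.span A (Set.range fun i => KaehlerDifferential.D k A (t i)) = ⊤)
    (J : Finset (Fin n)) {m : ℕ} (c : Fin m → Fin d) (hc : ∀ i, i ∉ Set.range c → ∃ j ∈ J, e j = i) :
    Submodule.span (QI t e J)
      (Set.range fun i => KaehlerDifferential.D k (QI t e J) (mkI t e J (t (c i)))) = ⊤ := by
  rw [eq_top_iff, ← kaehler_span k (QI t e J), Submodule.span_le]
  rintro _ ⟨a, rfl⟩
  obtain ⟨a, rfl⟩ := Ideal.Quotient.mk_surjective a
  have h1 : KaehlerDifferential.D k (QI t e J) (mkI t e J a) =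
      KaehlerDifferential.map k k A (QI t e J) (KaehlerDifferential.D k A a) :=
    (KaehlerDifferential.map_D k k A (QI t e J) a).symm
  have h2 : KaehlerDifferential.D k A a ∈
      Submodule.span A (Set.range fun i => KaehlerDifferential.D k A (t i)) := by rw [hb]; trivial
  change KaehlerDifferential.D k (QI t e J) (mkI t e J a) ∈ _
  rw [h1]
  generalize KaehlerDifferential.D k A a = x at h2
  induction h2 using Submodule.span_induction with
  | mem x hx =>
    obtain ⟨i, rfl⟩ := hx
    rw [KaehlerDifferential.map_D]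
    by_cases hi : i ∈ Set.range c
    · obtain ⟨j, rfl⟩ := hi
      exact Submodule.subset_span ⟨j, rfl⟩
    · obtain ⟨j, hj, rfl⟩ := hc i hi
      have : algebraMap A (QI t e J) (t (e j)) = 0 := mkI_eq_zero t e hj
      rw [this, map_zero]
      exact zero_mem _
  | zero => rw [map_zero]; exact zero_mem _
  | add x y _ _ hx hy => rw [map_add]; exact add_mem hx hy
  | smul a x _ hx =>
    rw [map_smul, ← algebraMap_smul (QI t e J) a]
    exact Submodule.smul_mem _ _ hx

theorem exists_cmp (s m : ℕ) (hs : s + 1 + m = d) (J : Finset (Fin n)) :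
    ∃ c : Fin m → Fin d, J.card = s + 1 → ∀ i, i ∉ Set.range c ↔ ∃ j ∈ J, e j = i := by
  by_cases hJ : J.card = s + 1
  · have h : ((J.map e)ᶜ).card = m := by
      rw [Finset.card_compl, Finset.card_map, hJ, Fintype.card_fin]; omega
    refine ⟨((J.map e)ᶜ).orderEmbOfFin h, fun _ i => ?_⟩
    rw [Finset.range_orderEmbOfFin]
    simp
  · exact ⟨fun _ => ⟨0, by omega⟩, fun h => absurd h hJ⟩

theorem main
    (hb : Submodule.span A (Set.range fun i => KaehlerDifferential.D k A (t i)) = ⊤)
    (ψ : ∀ (I J : Finset (Fin n)) (p : ℕ),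
      ↥(⋀[QI t e I]^p (Ω[QI t e I⁄k])) →+ ↥(⋀[QI t e J]^p (Ω[QI t e J⁄k])))
    (hψ : ∀ (I J : Finset (Fin n)) (h : I ⊆ J),
      DeRham.IsCxMap (KaehlerDifferential.D k (QI t e I)) (KaehlerDifferential.D k (QI t e J))
        (Ideal.Quotient.factor (biSup_mono h)) (ψ I J))
    (s m : ℕ) (hs : s + 1 + m = d)
    (g : ∀ J : Finset (Fin n), ↥(⋀[QI t e J]^m (Ω[QI t e J⁄k]))) :
    ∃ ω : ∀ I : Finset (Fin n), ↥(⋀[QI t e I]^m (Ω[QI t e I⁄k])),
      ∀ J : Finset (Fin n), J.card = s + 1 →
        (∑ j ∈ J.attach,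
          ((-1 : ℤ) ^ (J.filter (fun i => i < j.1)).card) •
            ψ (J.erase j.1) J m (ω (J.erase j.1))) = g J := by
  classical
  choose c hc using exists_cmp e s m hs
  have hf : ∀ J : Finset (Fin n), ∃ f : A, J.card = s + 1 → g J =
      DeRham.gen (KaehlerDifferential.D k (QI t e J)) m (mkI t e J f) (fun i => mkI t e J (t (c J i))) := by
    intro J
    by_cases hJ : J.card = s + 1
    · obtain ⟨a, ha⟩ := span_top _ (span_D_compl k t e hb J (c J) fun i hi => (hc J hJ i).mp hi) (g J)
      obtain ⟨f, rfl⟩ := Ideal.Quotient.mk_surjective a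
      exact ⟨f, fun _ => ha⟩
    · exact ⟨0, fun h => absurd h hJ⟩
  choose f hf using hf
  -- the individual terms
  let τ : ∀ (J' I : Finset (Fin n)), ↥(⋀[QI t e I]^m (Ω[QI t e I⁄k])) := fun J' I =>
    DeRham.gen (KaehlerDifferential.D k (QI t e I)) m (mkI t e I (f J')) (fun i => mkI t e I (t (c J' i)))
  have hτψ : ∀ (J' I J : Finset (Fin n)) (h : I ⊆ J), ψ I J m (τ J' I) = τ J' J := by
    intro J' I J h
    exact hψ I J h m _ _
  have hτ0 : ∀ (J' J : Finset (Fin n)) (j : Fin n), J'.card = s + 1 → j ∈ J → j ∉ J' → τ J' J = 0 := by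
    intro J' J j hJ' hj hj'
    have h1 : e j ∈ Set.range (c J') := by
      by_contra h
      obtain ⟨j', hj'', he⟩ := (hc J' hJ' (e j)).mp h
      exact hj' (e.injective he ▸ hj'')
    obtain ⟨i, hi⟩ := h1
    change DeRham.gen _ _ _ _ = 0
    rw [DeRham.gen]
    have : (ιMulti (QI t e J) m) (fun i => KaehlerDifferential.D k (QI t e J) (mkI t e J (t (c J' i)))) = 0 := by
      apply AlternatingMap.map_coord_zero _ i
      rw [hi, mkI_eq_zero t e hj, map_zero]
    rw [this, smul_zero]
  refine ⟨fun I => ∑ j ∈ Finset.univ.filter (fun j => j ∉ I ∧ ∀ i ∈ I, j < i), τ (insert j I) I, ?_⟩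
  intro J hJ
  have hne : J.Nonempty := by rw [← Finset.card_pos]; omega
  set j₀ := J.min' hne with hj₀
  have hj₀J : j₀ ∈ J := J.min'_mem hne
  -- the `j`-th term of the sum
  have hterm : ∀ j ∈ J, ψ (J.erase j) J m (∑ j' ∈ Finset.univ.filter
      (fun j' => j' ∉ J.erase j ∧ ∀ i ∈ J.erase j, j' < i), τ (insert j' (J.erase j)) (J.erase j)) =
      if j = j₀ then g J else 0 := by
    intro j hj
    rw [map_sum]
    have h1 : ∀ j' ∈ Finset.univ.filter (fun j' => j' ∉ J.erase j ∧ ∀ i ∈ J.erase j, j' < i),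
        ψ (J.erase j) J m (τ (insert j' (J.erase j)) (J.erase j)) =
          if j' = j then g J else 0 := by
      intro j' hj'
      rw [hτψ _ _ _ (Finset.erase_subset _ _)]
      split_ifs with h
      · subst h
        rw [Finset.insert_erase hj, hf J hJ]
      · rw [Finset.mem_filter] at hj'
        apply hτ0 _ _ j _ hj
        · rw [Finset.mem_insert, not_or]
          exact ⟨fun h' => h h'.symm, Finset.notMem_erase _ _⟩
        · rw [Finset.card_insert_of_notMem hj'.2.1, Finset.card_erase_of_mem hj, hJ]; omega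
    rw [Finset.sum_congr rfl h1, Finset.sum_ite_eq']
    congr 1
    rw [Finset.mem_filter, eq_iff_iff]
    constructor
    · rintro ⟨-, -, h⟩
      by_contra hne'
      have h2 := h j₀ (Finset.mem_erase.mpr ⟨fun h => hne' h.symm, hj₀J⟩)
      exact absurd (J.min'_le j hj) (not_le.mpr h2)
    · intro h
      refine ⟨Finset.mem_univ _, Finset.notMem_erase _ _, fun i hi => ?_⟩
      rw [Finset.mem_erase] at hi
      exact lt_of_le_of_ne (h ▸ J.min'_le i hi.2) (Ne.symm hi.1)
  have h2 : ∀ j ∈ J.attach, ((-1 : ℤ) ^ (J.filter (fun i => i < j.1)).card) •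
            ψ (J.erase j.1) J m (∑ j' ∈ Finset.univ.filter
      (fun j' => j' ∉ J.erase j.1 ∧ ∀ i ∈ J.erase j.1, j' < i), τ (insert j' (J.erase j.1)) (J.erase j.1)) =
      if j = ⟨j₀, hj₀J⟩ then g J else 0 := by
    intro j _
    rw [hterm j.1 j.2]
    by_cases h : j = ⟨j₀, hj₀J⟩
    · subst h
      have h3 : (J.filter (fun i => i < j₀)) = ∅ := by
        rw [Finset.filter_eq_empty_iff]
        intro i hi
        exact not_lt.mpr (J.min'_le i hi)
      rw [if_pos rfl, if_pos rfl]
      change ((-1 : ℤ) ^ (J.filter (fun i => i < j₀)).card) • g J = g J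
      rw [h3, Finset.card_empty, pow_zero, one_smul]
    · have h' : j.1 ≠ j₀ := fun h'' => h (Subtype.ext h'')
      rw [if_neg h, if_neg h', smul_zero]
  rw [Finset.sum_congr rfl h2, Finset.sum_ite_eq', if_pos (Finset.mem_attach _ _)]

end coord

end K852.Cech
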