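import Groth.Agent.DeRham.K852.Basic

/-!
# Calculus for a family `d` obeying the rule on a set `G` of closed one-forms

`RuleOn δ G d`: `d (b₀ • g₁ ∧ … ∧ g_p) = δ b₀ ∧ g₁ ∧ … ∧ g_p` for `gᵢ ∈ G`. Coefficientwise operators with respect to a basis.
-/

set_option autoImplicit false

universe v u

open exteriorPower

namespace K852.DR

theorem G_induction {A : Type*} {M : Type*} [CommRing A] [AddCommGroup M] [Module A M] {G : Set M} (hG : Submodule.span A G = ⊤) (p : ℕ) {P : ↥(⋀[A]^p M) → Prop}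
    (hg : ∀ (b₀ : A) (v : Fin p → M), (∀ i, v i ∈ G) → P (b₀ • ιMulti A p v)) (h0 : P 0)
    (hadd : ∀ x y, P x → P y → P (x + y)) (x : ↥(⋀[A]^p M)) : P x := by
  have hx : x ∈ Submodule.span A (ιMulti A p '' {a | Set.range a ⊆ G}) := by
    rw [ιMulti_span_of_span A p M hG]; trivial
  rw [Submodule.mem_span_set'] at hx
  obtain ⟨n, f, g, rfl⟩ := hx
  refine Finset.sum_induction _ P hadd h0 fun i _ => ?_
  obtain ⟨v, hv, hgv⟩ := (g i).2
  rw [← hgv]
  exact hg _ _ fun i => hv ⟨i, rfl⟩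

section

variable {R : Type v} {A M : Type u} [CommRing R] [CommRing A] [Algebra R A]
  [AddCommGroup M] [Module A M] [Module R M] [IsScalarTower R A M]

/-- the de Rham rule on wedges of elements of `G` -/
def RuleOn (δ : Derivation R A M) (G : Set M) (d : ∀ p : ℕ, ↥(⋀[A]^p M) →ₗ[R] ↥(⋀[A]^(p + 1) M)) : Prop :=
  ∀ (p : ℕ) (b₀ : A) (v : Fin p → M), (∀ i, v i ∈ G) →
    d p (b₀ • ιMulti A p v) = wedge1 p (δ b₀) (ιMulti A p v)

theorem ruleOn_range {δ : Derivation R A M} {d : ∀ p : ℕ, ↥(⋀[A]^p M) →ₗ[R] ↥(⋀[A]^(p + 1) M)}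
    (hd : DeRham.IsRule δ d) : RuleOn δ (Set.range δ) d := by
  intro p b₀ v hv
  choose b hb using hv
  have : v = fun i => δ (b i) := by funext i; exact (hb i).symm
  rw [this]
  exact d_gen hd p b₀ b

variable {δ : Derivation R A M} {G : Set M}
  {d : ∀ p : ℕ, ↥(⋀[A]^p M) →ₗ[R] ↥(⋀[A]^(p + 1) M)}

theorem d_smul_G (hG : Submodule.span A G = ⊤) (hd : RuleOn δ G d) (p : ℕ) (a : A)
    (x : ↥(⋀[A]^p M)) : d p (a • x) = wedge1 p (δ a) x + a • d p x := by
  refine G_induction hG p (P := fun x => d p (a • x) = wedge1 p (δ a) x + a • d p x) ?_ ?_ ?_ x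
  · intro b₀ v hv
    rw [smul_smul, hd p _ v hv, hd p _ v hv, Derivation.leibniz, map_add, map_smul, map_smul,
      LinearMap.add_apply, LinearMap.smul_apply, LinearMap.smul_apply, map_smul]
    exact add_comm _ _
  · simp
  · intro x y hx hy
    rw [smul_add, map_add, hx, hy, map_add, map_add, smul_add]; abel

theorem d_wedge1_G (hG : Submodule.span A G = ⊤) (hd : RuleOn δ G d) (p : ℕ) (g : M) (hg : g ∈ G)
    (x : ↥(⋀[A]^p M)) : d (p + 1) (wedge1 p g x) = - wedge1 (p + 1) g (d p x) := by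
  refine G_induction hG p (P := fun x => d (p + 1) (wedge1 p g x) =
    - wedge1 (p + 1) g (d p x)) ?_ ?_ ?_ x
  · intro b₀ v hv
    have h1 : wedge1 p g (b₀ • ιMulti A p v) = b₀ • ιMulti A (p + 1) (Fin.cons g v) := by
      rw [map_smul, wedge1_ιMulti]
    have h2 : ∀ i, (Fin.cons g v : Fin (p + 1) → M) i ∈ G := by
      intro i
      refine Fin.cases ?_ (fun i => ?_) i
      · simpa using hg
      · simpa using hv i
    rw [h1, hd _ _ _ h2, hd p b₀ v hv, ← wedge1_ιMulti, wedge1_swap]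
  · simp
  · intro x y hx hy
    rw [map_add, map_add, hx, hy, map_add, map_add, neg_add]

theorem lie_smul_G (hG : Submodule.span A G = ⊤) (hd : RuleOn δ G d)
    (φ : Module.Dual A M) (p : ℕ) (a : A) (x : ↥(⋀[A]^p M)) :
    lie d φ p (a • x) = φ (δ a) • x + a • lie d φ p x := by
  cases p with
  | zero =>
    rw [lie_zero, lie_zero, d_smul_G hG hd, map_add, map_smul, contr_wedge1_zero]
  | succ p =>
    rw [lie_succ, lie_succ, d_smul_G hG hd, map_add, (contr φ p).map_smul, (contr φ (p + 1)).map_smul,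
      contr_wedge1, d_smul_G hG hd, smul_add]
    abel

theorem lie_wedge1_G (hG : Submodule.span A G = ⊤) (hd : RuleOn δ G d)
    (φ : Module.Dual A M) (p : ℕ) (g : M) (hg : g ∈ G) (x : ↥(⋀[A]^p M)) :
    lie d φ (p + 1) (wedge1 p g x) = wedge1 p (δ (φ g)) x + wedge1 p g (lie d φ p x) := by
  cases p with
  | zero =>
    rw [lie_succ, lie_zero, contr_wedge1_zero, d_smul_G hG hd, d_wedge1_G hG hd _ _ hg, map_neg,
      contr_wedge1]
    abel
  | succ p =>
    rw [lie_succ, lie_succ, contr_wedge1, map_sub, d_smul_G hG hd, d_wedge1_G hG hd _ _ hg,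
      d_wedge1_G hG hd _ _ hg, map_neg, contr_wedge1, map_add]
    abel

end

section basis

variable {A : Type*} {M : Type*} [CommRing A] [AddCommGroup M] [Module A M]
  {I : Type*} [LinearOrder I] (b : Module.Basis I A M)

/-- the coordinates of a wedge of basis vectors are integers -/
theorem exists_int_repr (p : ℕ) (τ : Fin p → I) (s : Set.powersetCard I p) :
    ∃ z : ℤ, (b.exteriorPower p).repr (ιMulti A p (fun i => b (τ i))) s = (z : A) := by
  classical
  refine ⟨(Matrix.of fun i j : Fin p => if (Set.powersetCard.ofFinEmbEquiv.symm s) j = τ i then (1 : ℤ) else 0).det,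
    ?_⟩
  rw [basis_repr_apply, ιMultiDual_apply_ιMulti]
  have := RingHom.map_det (Int.castRingHom A)
    (Matrix.of fun i j : Fin p => if (Set.powersetCard.ofFinEmbEquiv.symm s) j = τ i then (1 : ℤ) else 0)
  rw [eq_intCast] at this
  rw [this]
  congr 1
  ext i j
  simp only [Matrix.of_apply, Module.Basis.coord_apply, Module.Basis.repr_self, Finsupp.single_apply,
    RingHom.mapMatrix_apply, Matrix.map_apply]
  by_cases h : (Set.powersetCard.ofFinEmbEquiv.symm s) j = τ i
  · rw [if_pos h, if_pos h.symm]; simp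
  · rw [if_neg h, if_neg (fun h' => h h'.symm)]; simp

omit [LinearOrder I] in
/-- induction on multiples of wedges of basis vectors -/
theorem basis_induction (p : ℕ) {P : ↥(⋀[A]^p M) → Prop}
    (hg : ∀ (f : A) (τ : Fin p → I), P (f • ιMulti A p (fun i => b (τ i)))) (h0 : P 0)
    (hadd : ∀ x y, P x → P y → P (x + y)) (x : ↥(⋀[A]^p M)) : P x := by
  refine G_induction b.span_eq p (fun b₀ v hv => ?_) h0 hadd x
  choose τ hτ using hv
  have : v = fun i => b (τ i) := by funext i; exact (hτ i).symm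
  rw [this]
  exact hg b₀ τ

variable {R : Type*} [CommRing R] [Algebra R A]

/-- the coefficientwise operator attached to `T : A → A` -/
noncomputable def cw (p : ℕ) (T : A →ₗ[R] A) : ↥(⋀[A]^p M) →+ ↥(⋀[A]^p M) :=
  ((b.exteriorPower p).repr.symm.toLinearMap.toAddMonoidHom.comp
    (Finsupp.mapRange.addMonoidHom T.toAddMonoidHom)).comp
    (b.exteriorPower p).repr.toLinearMap.toAddMonoidHom

theorem repr_cw (p : ℕ) (T : A →ₗ[R] A) (x : ↥(⋀[A]^p M)) (s : Set.powersetCard I p) :
    (b.exteriorPower p).repr (cw b p T x) s = T ((b.exteriorPower p).repr x s) := by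
  change (b.exteriorPower p).repr ((b.exteriorPower p).repr.symm _) s = _
  rw [LinearEquiv.apply_symm_apply]
  rfl

theorem cw_smul_ιMulti (p : ℕ) (T : A →ₗ[R] A) (f : A) (τ : Fin p → I) :
    cw b p T (f • ιMulti A p (fun i => b (τ i))) = T f • ιMulti A p (fun i => b (τ i)) := by
  apply (b.exteriorPower p).repr.injective
  ext s
  obtain ⟨z, hz⟩ := exists_int_repr b p τ s
  rw [repr_cw, map_smul, map_smul, Finsupp.smul_apply, Finsupp.smul_apply, hz, smul_eq_mul, smul_eq_mul,
    mul_comm, ← zsmul_eq_mul, map_zsmul, zsmul_eq_mul, mul_comm]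

theorem cw_wedge1 (p : ℕ) (T : A →ₗ[R] A) (i : I) (x : ↥(⋀[A]^p M)) :
    cw b (p + 1) T (wedge1 p (b i) x) = wedge1 p (b i) (cw b p T x) := by
  refine basis_induction b p (P := fun x => cw b (p + 1) T (wedge1 p (b i) x) =
    wedge1 p (b i) (cw b p T x)) ?_ ?_ ?_ x
  · intro f τ
    have h1 : wedge1 p (b i) (ιMulti A p (fun i => b (τ i))) =
        ιMulti A (p + 1) (fun j => b ((Fin.cons i τ : Fin (p + 1) → I) j)) := by
      rw [wedge1_ιMulti]
      congr 1
      funext j
      refine Fin.cases ?_ (fun j => ?_) j <;> simp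
    rw [map_smul, h1, cw_smul_ιMulti, cw_smul_ιMulti, map_smul, h1]
  · simp
  · intro x y hx hy
    rw [map_add, map_add, hx, hy, map_add, map_add]

theorem cw_comp (p : ℕ) (T T' : A →ₗ[R] A) (x : ↥(⋀[A]^p M)) :
    cw b p T (cw b p T' x) = cw b p (T ∘ₗ T') x := by
  apply (b.exteriorPower p).repr.injective
  ext s
  rw [repr_cw, repr_cw, repr_cw]; rfl

theorem cw_id (p : ℕ) (x : ↥(⋀[A]^p M)) :
    cw b p (LinearMap.id : A →ₗ[R] A) x = x := by
  apply (b.exteriorPower p).repr.injective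
  ext s
  rw [repr_cw]; rfl

theorem cw_add (p : ℕ) (T T' : A →ₗ[R] A) (x : ↥(⋀[A]^p M)) :
    cw b p (T + T') x = cw b p T x + cw b p T' x := by
  apply (b.exteriorPower p).repr.injective
  ext s
  rw [map_add, Finsupp.add_apply, repr_cw, repr_cw, repr_cw]; rfl

end basis

section basisd

variable {R : Type v} {A M : Type u} [CommRing R] [CommRing A] [Algebra R A]
  [AddCommGroup M] [Module A M] [Module R M] [IsScalarTower R A M]
  {δ : Derivation R A M} {G : Set M} {d : ∀ p : ℕ, ↥(⋀[A]^p M) →ₗ[R] ↥(⋀[A]^(p + 1) M)}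
  {I : Type*} [LinearOrder I] [Fintype I] (b : Module.Basis I A M)

omit [LinearOrder I] [Module R M] [IsScalarTower R A M] [Algebra R A] [CommRing R] in
theorem wedge1_eq_sum (p : ℕ) (m : M) (x : ↥(⋀[A]^p M)) :
    wedge1 p m x = ∑ i, b.repr m i • wedge1 p (b i) x := by
  conv_lhs => rw [← b.sum_repr m]
  rw [map_sum, LinearMap.sum_apply]
  refine Finset.sum_congr rfl fun i _ => ?_
  rw [map_smul, LinearMap.smul_apply]

/-- A coefficientwise operator commuting with the partial derivatives commutes with `d`. -/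
theorem cw_d (hG : RuleOn δ G d) (hb : ∀ i, b i ∈ G) (T T' : A →ₗ[R] A)
    (h : ∀ i f, T' (b.repr (δ f) i) = b.repr (δ (T f)) i) (p : ℕ) (x : ↥(⋀[A]^p M)) :
    cw b (p + 1) T' (d p x) = d p (cw b p T x) := by
  refine basis_induction b p (P := fun x => cw b (p + 1) T' (d p x) = d p (cw b p T x)) ?_ ?_ ?_ x
  · intro f τ
    have h1 : ∀ i, wedge1 p (b i) (ιMulti A p (fun i => b (τ i))) =
        ιMulti A (p + 1) (fun j => b ((Fin.cons i τ : Fin (p + 1) → I) j)) := by
      intro i
      rw [wedge1_ιMulti]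
      congr 1
      funext j
      refine Fin.cases ?_ (fun j => ?_) j <;> simp
    rw [cw_smul_ιMulti, hG p f _ (fun i => hb _), hG p _ _ (fun i => hb _), wedge1_eq_sum b,
      wedge1_eq_sum b p (δ (T f)), map_sum]
    refine Finset.sum_congr rfl fun i _ => ?_
    rw [h1, cw_smul_ιMulti, h]
  · simp
  · intro x y hx hy
    rw [map_add, map_add, hx, hy, map_add, map_add]

end basisd

end K852.DR
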