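import Groth.Agent.DeRham.K852.Weights
import Groth.Agent.DeRham.K852.Closed
import Mathlib.Algebra.CharP.Lemmas
import Mathlib.FieldTheory.Finite.Basic

/-!
# The projector onto weights divisible by `p`

In characteristic `p`, with Lie derivatives `L_ν`, the operator `∏ (1 - L_ν^(p-1))` is homotopic to the identity and
projects onto the part where all weights are divisible by `p`.
-/

set_option autoImplicit false

universe v u

open exteriorPower

namespace K852.DR

section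

variable {R : Type v} {A M : Type u} [CommRing R] [CommRing A] [Algebra R A]
  [AddCommGroup M] [Module A M] [Module R M] [IsScalarTower R A M]
  (d : ∀ p : ℕ, ↥(⋀[A]^p M) →ₗ[R] ↥(⋀[A]^(p + 1) M)) {I : Type*} (φ : I → Module.Dual A M) (p : ℕ)

/-- the product of the operators `1 - L_ν^(p-1)` over a list of indices -/
noncomputable def pl : List I → ∀ q : ℕ, ↥(⋀[A]^q M) →ₗ[R] ↥(⋀[A]^q M)
  | [], _ => LinearMap.id
  | ν :: l, q => pl l q - LinearMap.comp ((lie d (φ ν) q : Module.End R ↥(⋀[A]^q M)) ^ (p - 1)) (pl l q)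

theorem pl_nil (q : ℕ) (x : ↥(⋀[A]^q M)) : pl d φ p [] q x = x := rfl

theorem pl_cons (ν : I) (l : List I) (q : ℕ) (x : ↥(⋀[A]^q M)) :
    pl d φ p (ν :: l) q x = pl d φ p l q x - ((lie d (φ ν) q) ^ (p - 1)) (pl d φ p l q x) := rfl

variable {d φ p}

theorem lie_pow_of_weight (ν : I) (q : ℕ) (x : ↥(⋀[A]^q M)) (w : ℕ)
    (hw : lie d (φ ν) q x = w • x) (n : ℕ) : ((lie d (φ ν) q) ^ n) x = w ^ n • x := by
  induction n with
  | zero => simp
  | succ n ih =>
    rw [pow_succ', Module.End.mul_apply, ih, map_nsmul, hw, smul_smul, pow_succ]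

theorem natCast_smul_eq [CharP R p] (hp : p.Prime) (q : ℕ) (x : ↥(⋀[A]^q M)) (w : ℕ) :
    w ^ (p - 1) • x = if p ∣ w then 0 else x := by
  have : Fact p.Prime := ⟨hp⟩
  rw [← Nat.cast_smul_eq_nsmul R]
  split_ifs with h
  · have : ((w ^ (p - 1) : ℕ) : R) = 0 := by
      rw [CharP.cast_eq_zero_iff R p]
      exact dvd_pow h (Nat.sub_ne_zero_of_lt hp.one_lt)
    rw [this, zero_smul]
  · have h1 : ((w : ZMod p)) ≠ 0 := by
      rw [Ne, ZMod.natCast_eq_zero_iff]; exact h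
    have h2 := ZMod.pow_card_sub_one_eq_one h1
    have h3 : ((w ^ (p - 1) : ℕ) : R) = 1 := by
      have := congrArg (ZMod.castHom (dvd_refl p) R) h2
      simpa using this
    rw [h3, one_smul]

theorem pl_of_weight [CharP R p] (hp : p.Prime) (l : List I) (q : ℕ) (x : ↥(⋀[A]^q M)) (w : I → ℕ)
    (hw : ∀ ν ∈ l, lie d (φ ν) q x = w ν • x) :
    pl d φ p l q x = x ∨ pl d φ p l q x = 0 ∧ ∃ ν ∈ l, ¬ p ∣ w ν := by
  induction l with
  | nil => exact Or.inl rfl
  | cons ν l ih =>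
    rcases ih (fun μ hμ => hw μ (List.mem_cons_of_mem _ hμ)) with h | ⟨h, μ, hμ, hμ'⟩
    · rw [pl_cons, h, lie_pow_of_weight ν q x (w ν) (hw ν List.mem_cons_self), natCast_smul_eq (R := R) hp]
      split_ifs with h'
      · left; rw [sub_zero]
      · right; exact ⟨sub_self x, ν, List.mem_cons_self, h'⟩
    · right
      rw [pl_cons, h, map_zero, sub_zero]
      exact ⟨rfl, μ, List.mem_cons_of_mem _ hμ, hμ'⟩

theorem pl_eq_self_of_weight [CharP R p] (hp : p.Prime) (l : List I) (q : ℕ) (x : ↥(⋀[A]^q M)) (w : I → ℕ)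
    (hw : ∀ ν ∈ l, lie d (φ ν) q x = w ν • x) (hdvd : ∀ ν ∈ l, p ∣ w ν) :
    pl d φ p l q x = x := by
  rcases pl_of_weight hp l q x w hw with h | ⟨-, ν, hν, h⟩
  · exact h
  · exact absurd (hdvd ν hν) h

theorem pl_eq_zero_of_weight [CharP R p] (hp : p.Prime) (l : List I) (q : ℕ) (x : ↥(⋀[A]^q M)) (w : I → ℕ)
    (hw : ∀ ν ∈ l, lie d (φ ν) q x = w ν • x) (ν : I) (hν : ν ∈ l) (h : ¬ p ∣ w ν) :
    pl d φ p l q x = 0 := by
  induction l with
  | nil => simp at hν
  | cons μ l ih =>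
    rcases pl_of_weight (d := d) (φ := φ) hp l q x w (fun μ hμ => hw μ (List.mem_cons_of_mem _ hμ)) with h' | ⟨h', -⟩
    · rcases List.mem_cons.mp hν with rfl | hν'
      · rw [pl_cons, h', lie_pow_of_weight ν q x (w ν) (hw ν List.mem_cons_self),
          natCast_smul_eq (R := R) hp, if_neg h, sub_self]
      · rw [pl_cons, ih (fun μ hμ => hw μ (List.mem_cons_of_mem _ hμ)) hν', map_zero, sub_zero]
    · rw [pl_cons, h', map_zero, sub_zero]

theorem lie_pow_d (hdd : ∀ (p : ℕ) (x : ↥(⋀[A]^p M)), d (p + 1) (d p x) = 0)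
    (φ : Module.Dual A M) (q n : ℕ) (x : ↥(⋀[A]^q M)) :
    ((lie d φ (q + 1)) ^ n) (d q x) = d q (((lie d φ q) ^ n) x) := by
  induction n with
  | zero => simp
  | succ n ih =>
    rw [pow_succ', Module.End.mul_apply, ih, pow_succ', Module.End.mul_apply, lie_d hdd]

theorem pl_d (hdd : ∀ (p : ℕ) (x : ↥(⋀[A]^p M)), d (p + 1) (d p x) = 0)
    (l : List I) (q : ℕ) (x : ↥(⋀[A]^q M)) :
    pl d φ p l (q + 1) (d q x) = d q (pl d φ p l q x) := by
  induction l with
  | nil => rfl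
  | cons ν l ih => rw [pl_cons, pl_cons, ih, lie_pow_d hdd, map_sub]

theorem lie_pow_mem_coboundaries (hdd : ∀ (p : ℕ) (x : ↥(⋀[A]^p M)), d (p + 1) (d p x) = 0)
    (φ : Module.Dual A M) (q n : ℕ) (x : ↥(⋀[A]^q M)) (hx : d q x = 0) :
    ((lie d φ q) ^ (n + 1)) x ∈ DeRham.coboundaries d q := by
  have h : d q (((lie d φ q) ^ n) x) = 0 := by
    rw [← lie_pow_d hdd, hx, map_zero]
  rw [pow_succ', Module.End.mul_apply]
  exact lie_mem_coboundaries φ q _ h

theorem sub_pl_mem (hp : 1 < p) (hdd : ∀ (p : ℕ) (x : ↥(⋀[A]^p M)), d (p + 1) (d p x) = 0)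
    (l : List I) (q : ℕ) (x : ↥(⋀[A]^q M)) (hx : d q x = 0) :
    x - pl d φ p l q x ∈ DeRham.coboundaries d q := by
  induction l with
  | nil => rw [pl_nil, sub_self]; exact zero_mem _
  | cons ν l ih =>
    have h1 : d q (pl d φ p l q x) = 0 := by rw [← pl_d hdd, hx, map_zero]
    have h2 : p - 1 = (p - 2) + 1 := by omega
    rw [pl_cons, ← sub_add]
    refine add_mem ih ?_
    rw [h2]
    exact lie_pow_mem_coboundaries hdd _ q _ _ h1

end

end K852.DR
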