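import Groth.Agent.Sga5.RelFrobEtale
import Mathlib.RingTheory.Smooth.Flat
import Mathlib.RingTheory.Kaehler.Polynomial
import Mathlib.RingTheory.Etale.Kaehler
import Mathlib.FieldTheory.Perfect
import Mathlib.LinearAlgebra.Basis.Basic
import Mathlib.RingTheory.TensorProduct.Basic
import Mathlib.RingTheory.TensorProduct.Free
import Mathlib.Algebra.MvPolynomial.Nilpotent
import Groth.Agent.DeRham.K852.CharP
import Groth.Agent.DeRham.K852.CartierInv

/-!
# Étale coordinates in characteristic `p`
-/

set_option autoImplicit false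
set_option linter.unusedSectionVars false

universe u

open TensorProduct FrobAlg exteriorPower

namespace K852.EtFrob

open K852.DR

section

variable (p : ℕ) [Fact p.Prime] (A S : Type u) [CommRing A] [CharP A p] [PerfectRing A p]
  [CommRing S] [CharP S p] (n : ℕ)
  [Algebra (MvPolynomial (Fin n) A) S] [Algebra.Etale (MvPolynomial (Fin n) A) S]

variable {p A S n}

omit [CharP A p] in
theorem reduced_mvPolynomial : ∀ q : MvPolynomial (Fin n) A, q ^ p = 0 → q = 0 := by
  have : IsReduced A := by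
    rw [isReduced_iff_pow_one_lt p (Fact.out (p := p.Prime)).one_lt]
    intro x hx
    apply (PerfectRing.bijective_frobenius (R := A) (p := p)).1
    change x ^ p = 0 ^ p
    rw [hx, zero_pow (Fact.out (p := p.Prime)).ne_zero]
  intro q hq
  exact (pow_eq_zero_iff (Fact.out (p := p.Prime)).ne_zero).mp hq

variable (A S) in
/-- the coordinate functions -/
noncomputable def tc (i : Fin n) : S := algebraMap (MvPolynomial (Fin n) A) S (MvPolynomial.X i)

variable (A S) in
/-- monomials in the coordinate functions -/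
noncomputable def mon (m : Fin n →₀ ℕ) : S :=
  algebraMap (MvPolynomial (Fin n) A) S (MvPolynomial.monomial m 1)

theorem frob_induction {Q : S → Prop}
    (h : ∀ (c : S) (m : Fin n →₀ ℕ), Q (c ^ p * mon A S m))
    (hadd : ∀ x y, Q x → Q y → Q (x + y)) (s : S) : Q s := by
  obtain ⟨x, rfl⟩ := (Groth.Agent.Sga5.RelFrobEtale.relFrob_bijective p (MvPolynomial (Fin n) A) S
    inferInstance).2 s
  have h0 : Q 0 := by
    have := h 0 0
    rwa [zero_pow (Fact.out (p := p.Prime)).ne_zero, zero_mul] at this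
  induction x using TensorProduct.induction_on with
  | zero => rw [map_zero]; exact h0
  | add x y hx hy => rw [map_add]; exact hadd _ _ hx hy
  | tmul b a =>
    rw [Groth.Agent.S3191.relFrob_tmul]
    generalize (toTwist p (MvPolynomial (Fin n) A)).symm a = q
    induction q using MvPolynomial.induction_on' with
    | monomial m a =>
      obtain ⟨a', rfl⟩ := (PerfectRing.bijective_frobenius (R := A) (p := p)).2 a
      have h1 : MvPolynomial.monomial m (a' ^ p) =
          (MvPolynomial.C a') ^ p * MvPolynomial.monomial m (1 : A) := by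
        rw [← map_pow, MvPolynomial.C_mul_monomial, mul_one]
      have h2 := h (b * algebraMap (MvPolynomial (Fin n) A) S (MvPolynomial.C a')) m
      rw [mon, mul_pow, ← map_pow, mul_assoc, ← map_mul, ← h1] at h2
      exact h2
    | add p q hp hq => rw [map_add, mul_add]; exact hadd _ _ hp hq

variable (A n) in
include A n in
theorem reduced (c : S) (hc : c ^ p = 0) : c = 0 := by
  have hinj : Function.Injective (Algebra.linearMap (MvPolynomial (Fin n) A)
      (Twist p (MvPolynomial (Fin n) A))) := by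
    rw [injective_iff_map_eq_zero]
    intro q hq
    rw [Algebra.linearMap_apply, algebraMap_twist] at hq
    exact reduced_mvPolynomial (p := p) q ((toTwist p (MvPolynomial (Fin n) A)).injective
      (hq.trans (map_zero _).symm))
  have h1 := Module.Flat.lTensor_preserves_injective_linearMap (M := S) _ hinj
  have h2 : (c ⊗ₜ[MvPolynomial (Fin n) A] (1 : Twist p (MvPolynomial (Fin n) A))) = 0 := by
    apply (Groth.Agent.Sga5.RelFrobEtale.relFrob_bijective p (MvPolynomial (Fin n) A) S
      inferInstance).1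
    rw [map_zero, Groth.Agent.S3191.relFrob_tmul, hc, zero_mul]
  have h3 : c ⊗ₜ[MvPolynomial (Fin n) A] (1 : MvPolynomial (Fin n) A) = 0 := by
    apply h1
    rw [LinearMap.lTensor_tmul, Algebra.linearMap_apply, map_one, h2, map_zero]
  have h4 := congrArg (TensorProduct.rid (MvPolynomial (Fin n) A) S) h3
  rwa [TensorProduct.rid_tmul, one_smul, map_zero] at h4

omit [CharP A p] [PerfectRing A p] [CharP S p] [Fact p.Prime]
  [Algebra.Etale (MvPolynomial (Fin n) A) S] in
theorem mon_smul_add (m : Fin n →₀ ℕ) (j : Fin n) (k : ℕ) :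
    mon A S (p • m + Finsupp.single j k) = (mon A S m) ^ p * (tc A S j) ^ k := by
  have h : (MvPolynomial.monomial (p • m + Finsupp.single j k) 1 : MvPolynomial (Fin n) A) =
      (MvPolynomial.monomial m 1) ^ p * (MvPolynomial.X j) ^ k := by
    rw [MvPolynomial.monomial_pow, one_pow, MvPolynomial.X_pow_eq_monomial,
      MvPolynomial.monomial_mul, one_mul]
  rw [mon, h, map_mul, map_pow, map_pow]
  rfl

omit [CharP A p] [PerfectRing A p] [CharP S p] [Fact p.Prime]
  [Algebra.Etale (MvPolynomial (Fin n) A) S] in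
theorem mon_smul (m : Fin n →₀ ℕ) : mon A S (p • m) = (mon A S m) ^ p := by
  have h : (MvPolynomial.monomial (p • m) 1 : MvPolynomial (Fin n) A) =
      (MvPolynomial.monomial m 1) ^ p := by
    rw [MvPolynomial.monomial_pow, one_pow]
  rw [mon, h, map_pow]
  rfl

omit [CharP A p] [PerfectRing A p] [CharP S p] [Fact p.Prime] in
theorem tc_regular (j : Fin n) (c : S) (h : c * tc A S j = 0) : c = 0 := by
  have hinj : Function.Injective (LinearMap.mulRight (MvPolynomial (Fin n) A)
      (MvPolynomial.X j : MvPolynomial (Fin n) A)) := by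
    intro x y hxy
    exact MvPolynomial.isRegular_X.right hxy
  have h1 := Module.Flat.lTensor_preserves_injective_linearMap (M := S) _ hinj
  have h3 : c ⊗ₜ[MvPolynomial (Fin n) A] (1 : MvPolynomial (Fin n) A) = 0 := by
    apply h1
    rw [LinearMap.lTensor_tmul, LinearMap.mulRight_apply, one_mul, map_zero]
    apply (TensorProduct.rid (MvPolynomial (Fin n) A) S).injective
    rw [TensorProduct.rid_tmul, map_zero, Algebra.smul_def, mul_comm]
    exact h
  have h4 := congrArg (TensorProduct.rid (MvPolynomial (Fin n) A) S) h3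
  rwa [TensorProduct.rid_tmul, one_smul, map_zero] at h4

variable [Algebra A S] [IsScalarTower A (MvPolynomial (Fin n) A) S]

variable (A S n) in
/-- the basis `dt_i` -/
noncomputable def bas : Module.Basis (Fin n) S (Ω[S⁄A]) :=
  ((KaehlerDifferential.mvPolynomialBasis A (Fin n)).baseChange S).map
    (KaehlerDifferential.tensorKaehlerEquivOfFormallyEtale A (MvPolynomial (Fin n) A) S)

omit [CharP A p] [PerfectRing A p] [CharP S p] [Fact p.Prime] in
theorem bas_apply (i : Fin n) : bas A S n i = KaehlerDifferential.D A S (tc A S i) := by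
  rw [bas, Module.Basis.map_apply, Module.Basis.baseChange_apply,
    KaehlerDifferential.tensorKaehlerEquivOfFormallyEtale_apply,
    KaehlerDifferential.mapBaseChange_tmul, one_smul, KaehlerDifferential.mvPolynomialBasis_apply,
    KaehlerDifferential.map_D, tc]

omit [CharP A p] [PerfectRing A p] [CharP S p] [Fact p.Prime] in
theorem D_algebraMap (q : MvPolynomial (Fin n) A) :
    KaehlerDifferential.D A S (algebraMap (MvPolynomial (Fin n) A) S q) =
      ∑ ν, algebraMap (MvPolynomial (Fin n) A) S (MvPolynomial.pderiv ν q) • bas A S n ν := by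
  have h := (KaehlerDifferential.mvPolynomialBasis A (Fin n)).sum_repr
    (KaehlerDifferential.D A (MvPolynomial (Fin n) A) q)
  have h2 := congrArg (KaehlerDifferential.map A A (MvPolynomial (Fin n) A) S) h
  rw [KaehlerDifferential.map_D, map_sum] at h2
  rw [← h2]
  refine Finset.sum_congr rfl fun ν _ => ?_
  rw [map_smul, KaehlerDifferential.mvPolynomialBasis_repr_apply,
    KaehlerDifferential.mvPolynomialBasis_apply, KaehlerDifferential.map_D, bas_apply,
    algebraMap_smul, tc]

variable (A S) in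
/-- the dual vector fields `t_i ∂_i` -/
noncomputable def ph (i : Fin n) : Module.Dual S (Ω[S⁄A]) := (tc A S i) • (bas A S n).coord i

omit [CharP A p] [PerfectRing A p] [CharP S p] [Fact p.Prime] in
theorem ph_bas (i j : Fin n) : ph A S i (KaehlerDifferential.D A S (tc A S j)) =
    (if i = j then 1 else 0) • tc A S j := by
  rw [ph, LinearMap.smul_apply, ← bas_apply, Module.Basis.coord_apply, Module.Basis.repr_self]
  by_cases h : i = j
  · subst h; simp
  · rw [Finsupp.single_eq_of_ne h, if_neg h, smul_zero, zero_smul]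

omit [CharP A p] [PerfectRing A p] in
theorem ph_D (i : Fin n) (c : S) (m : Fin n →₀ ℕ) :
    ph A S i (KaehlerDifferential.D A S (c ^ p * mon A S m)) = m i • (c ^ p * mon A S m) := by
  rw [← K852.Cartier.pow_smul_D, map_smul, mon, D_algebraMap, map_sum,
    Finset.sum_eq_single i]
  · rw [map_smul, ph, LinearMap.smul_apply, Module.Basis.coord_apply, Module.Basis.repr_self,
      Finsupp.single_eq_same, smul_eq_mul, smul_eq_mul, smul_eq_mul, mul_one, tc, ← map_mul,
      mul_comm (MvPolynomial.pderiv i _), MvPolynomial.X_mul_pderiv_monomial, map_nsmul]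
    rw [← Nat.cast_smul_eq_nsmul S, ← Nat.cast_smul_eq_nsmul S, smul_eq_mul, smul_eq_mul]
    ring
  · intro j _ hj
    rw [map_smul, ph, LinearMap.smul_apply, Module.Basis.coord_apply, Module.Basis.repr_self,
      Finsupp.single_eq_of_ne (Ne.symm hj), smul_zero, smul_zero]
  · intro h; exact absurd (Finset.mem_univ i) h

variable {d : ∀ q : ℕ, ↥(⋀[S]^q (Ω[S⁄A])) →ₗ[A] ↥(⋀[S]^(q + 1) (Ω[S⁄A]))}
  (hd : DeRham.IsDiff (KaehlerDifferential.D A S) d)

variable (A S) in
/-- the unit in degree zero -/
noncomputable def e0 : ↥(⋀[S]^0 (Ω[S⁄A])) := ιMulti S 0 (fun i => i.elim0)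

include hd in
omit [CharP A p] [PerfectRing A p] [CharP S p] [Fact p.Prime] in
theorem lie_e0 (i : Fin n) : lie d (ph A S i) 0 (e0 A S) = 0 • (e0 A S) := by
  have h1 : e0 A S = DeRham.gen (KaehlerDifferential.D A S) 0 1 (fun i => i.elim0) := by
    rw [DeRham.gen, one_smul, e0]
    congr 1
    funext i
    exact i.elim0
  rw [lie_zero, h1, hd.1, Derivation.map_one_eq_zero, ιMulti_succ]
  simp

include hd in
omit [CharP A p] [PerfectRing A p] in
theorem lie_zero_term (i : Fin n) (c : S) (m : Fin n →₀ ℕ) :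
    lie d (ph A S i) 0 ((c ^ p * mon A S m) • e0 A S) = m i • ((c ^ p * mon A S m) • e0 A S) :=
  lie_weight_smul (kaehler_span A S) hd.1 _ 0 _ (m i) 0 (ph_D i c m) _ (lie_e0 hd i)

variable (A) in
/-- the basis forms in degree one -/
noncomputable def e1 (j : Fin n) : ↥(⋀[S]^1 (Ω[S⁄A])) :=
  wedge1 0 (KaehlerDifferential.D A S (tc A S j)) (e0 A S)

omit [CharP A p] [PerfectRing A p] [CharP S p] [Fact p.Prime] in
theorem e1_eq (j : Fin n) : e1 A j = (oneEquiv S (Ω[S⁄A])).symm (bas A S n j) := by
  rw [e1, e0, wedge1_ιMulti, oneEquiv_symm_apply, bas_apply]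
  congr 1
  funext i
  fin_cases i
  rfl

include hd in
omit [CharP A p] [PerfectRing A p] in
theorem lie_one_term (i j : Fin n) (c : S) (m : Fin n →₀ ℕ) :
    lie d (ph A S i) 1 ((c ^ p * mon A S m) • e1 A j) =
      (m i + (if i = j then 1 else 0)) • ((c ^ p * mon A S m) • e1 A j) := by
  refine lie_weight_smul (kaehler_span A S) hd.1 _ 1 _ (m i) (if i = j then 1 else 0) (ph_D i c m) _ ?_
  have := lie_weight_wedge1 (kaehler_span A S) hd.1 (ph A S i) 0 (tc A S j) (if i = j then 1 else 0) 0
    (ph_bas i j) _ (lie_e0 hd i)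
  rwa [add_zero] at this

/-- division of exponents -/
theorem exp_div (m : Fin n →₀ ℕ) (h : ∀ i, p ∣ m i) : ∃ m' : Fin n →₀ ℕ, m = p • m' := by
  refine ⟨m.mapRange (fun k => k / p) (Nat.zero_div p), ?_⟩
  ext i
  rw [Finsupp.smul_apply, Finsupp.mapRange_apply, smul_eq_mul, Nat.mul_div_cancel' (h i)]

theorem exp_div_one (j : Fin n) (m : Fin n →₀ ℕ) (h : ∀ i, p ∣ m i + (if i = j then 1 else 0)) :
    ∃ m' : Fin n →₀ ℕ, m = p • m' + Finsupp.single j (p - 1) := by
  have hp := (Fact.out (p := p.Prime)).pos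
  refine ⟨m.mapRange (fun k => k / p) (Nat.zero_div p), ?_⟩
  ext i
  rw [Finsupp.add_apply, Finsupp.smul_apply, Finsupp.mapRange_apply, smul_eq_mul]
  by_cases hij : i = j
  · subst hij
    rw [Finsupp.single_eq_same]
    have h1 := h i
    rw [if_pos rfl] at h1
    obtain ⟨k, hk⟩ := h1
    obtain ⟨k, rfl⟩ : ∃ k', k = k' + 1 := ⟨k - 1, by
      rcases k with _ | k
      · simp at hk
      · simp⟩
    have h2 : m i = (p - 1) + p * k := by
      rw [Nat.mul_add, Nat.mul_one] at hk
      omega
    rw [h2, Nat.add_mul_div_left _ _ hp, Nat.div_eq_of_lt (Nat.sub_lt hp one_pos), zero_add, add_comm]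
  · have h1 := h i
    rw [if_neg hij, add_zero] at h1
    rw [Finsupp.single_eq_of_ne hij, add_zero, Nat.mul_div_cancel' h1]

variable (p A S n) in
/-- the projector onto weights divisible by `p` -/
noncomputable def PL (d : ∀ q : ℕ, ↥(⋀[S]^q (Ω[S⁄A])) →ₗ[A] ↥(⋀[S]^(q + 1) (Ω[S⁄A]))) (q : ℕ) :
    ↥(⋀[S]^q (Ω[S⁄A])) →ₗ[A] ↥(⋀[S]^q (Ω[S⁄A])) :=
  pl d (fun i : Fin n => ph A S i) p Finset.univ.toList q

include hd in
theorem pl_zero (b : S) : ∃ c : S, PL p A S n d 0 (b • e0 A S) = c ^ p • e0 A S := by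
  refine frob_induction (p := p) (A := A) (n := n) (Q := fun b => ∃ c : S,
    PL p A S n d 0 (b • e0 A S) = c ^ p • e0 A S) ?_ ?_ b
  · intro c m
    by_cases h : ∀ i, p ∣ m i
    · obtain ⟨m', hm⟩ := exp_div m h
      refine ⟨c * mon A S m', ?_⟩
      have h1 : PL p A S n d 0 ((c ^ p * mon A S m) • e0 A S) = (c ^ p * mon A S m) • e0 A S :=
        pl_eq_self_of_weight (R := A) (Fact.out (p := p.Prime)) _ 0 _ m
          (fun ν _ => lie_zero_term hd ν c _) (fun ν _ => h ν)
      rw [h1, hm, mon_smul, mul_pow]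
    · push Not at h
      obtain ⟨i, hi⟩ := h
      refine ⟨0, ?_⟩
      rw [zero_pow (Fact.out (p := p.Prime)).ne_zero, zero_smul]
      exact pl_eq_zero_of_weight (R := A) (Fact.out (p := p.Prime)) _ 0 _ m
        (fun ν _ => lie_zero_term hd ν c _) i (Finset.mem_toList.mpr (Finset.mem_univ i)) hi
  · rintro x y ⟨c, hc⟩ ⟨c', hc'⟩
    exact ⟨c + c', by rw [add_smul, map_add, hc, hc', add_pow_char, add_smul]⟩

variable (p A S n) in
/-- the standard forms -/
noncomputable def std (c : Fin n → S) : ↥(⋀[S]^1 (Ω[S⁄A])) :=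
  ∑ j, (c j ^ p * (tc A S j) ^ (p - 1)) • e1 A j

theorem std_add (c c' : Fin n → S) : std p A S n (c + c') = std p A S n c + std p A S n c' := by
  rw [std, std, std, ← Finset.sum_add_distrib]
  refine Finset.sum_congr rfl fun j _ => ?_
  rw [Pi.add_apply, add_pow_char, add_mul, add_smul]

theorem std_zero : std p A S n 0 = 0 := by
  rw [std]
  refine Finset.sum_eq_zero fun j _ => ?_
  rw [Pi.zero_apply, zero_pow (Fact.out (p := p.Prime)).ne_zero, zero_mul, zero_smul]

theorem std_single (c : S) (j : Fin n) : std p A S n (Pi.single j c) =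
    (c ^ p * (tc A S j) ^ (p - 1)) • e1 A j := by
  rw [std, Finset.sum_eq_single j]
  · rw [Pi.single_eq_same]
  · intro i _ hi
    rw [Pi.single_eq_of_ne hi, zero_pow (Fact.out (p := p.Prime)).ne_zero, zero_mul, zero_smul]
  · intro h; exact absurd (Finset.mem_univ j) h

theorem e1_expand (x : ↥(⋀[S]^1 (Ω[S⁄A]))) : ∃ b : Fin n → S, x = ∑ j, b j • e1 A j := by
  refine ⟨fun j => (bas A S n).repr (oneEquiv S (Ω[S⁄A]) x) j, ?_⟩
  apply (oneEquiv S (Ω[S⁄A])).injective
  rw [map_sum]
  conv_lhs => rw [← (bas A S n).sum_repr (oneEquiv S (Ω[S⁄A]) x)]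
  refine Finset.sum_congr rfl fun j _ => ?_
  rw [map_smul, e1_eq, LinearEquiv.apply_symm_apply]

include hd in
theorem pl_one (x : ↥(⋀[S]^1 (Ω[S⁄A]))) : ∃ c : Fin n → S, PL p A S n d 1 x = std p A S n c := by
  have hadd : ∀ x y : ↥(⋀[S]^1 (Ω[S⁄A])), (∃ c : Fin n → S, PL p A S n d 1 x = std p A S n c) →
      (∃ c : Fin n → S, PL p A S n d 1 y = std p A S n c) →
      ∃ c : Fin n → S, PL p A S n d 1 (x + y) = std p A S n c := by
    rintro x y ⟨c, hc⟩ ⟨c', hc'⟩
    exact ⟨c + c', by rw [map_add, hc, hc', std_add]⟩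
  have hterm : ∀ (b : S) (j : Fin n), ∃ c : Fin n → S, PL p A S n d 1 (b • e1 A j) = std p A S n c := by
    intro b j
    refine frob_induction (p := p) (A := A) (n := n) (Q := fun b => ∃ c : Fin n → S,
      PL p A S n d 1 (b • e1 A j) = std p A S n c) ?_ ?_ b
    · intro c m
      by_cases h : ∀ i, p ∣ m i + (if i = j then 1 else 0)
      · obtain ⟨m', hm⟩ := exp_div_one j m h
        refine ⟨Pi.single j (c * mon A S m'), ?_⟩
        have h1 : PL p A S n d 1 ((c ^ p * mon A S m) • e1 A j) = (c ^ p * mon A S m) • e1 A j :=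
          pl_eq_self_of_weight (R := A) (Fact.out (p := p.Prime)) _ 1 _
            (fun i => m i + (if i = j then 1 else 0))
            (fun ν _ => lie_one_term hd ν j c _) (fun ν _ => h ν)
        rw [h1, hm, mon_smul_add, std_single, mul_pow, mul_assoc]
      · push Not at h
        obtain ⟨i, hi⟩ := h
        refine ⟨0, ?_⟩
        rw [std_zero]
        exact pl_eq_zero_of_weight (R := A) (Fact.out (p := p.Prime)) _ 1 _
          (fun i => m i + (if i = j then 1 else 0))
          (fun ν _ => lie_one_term hd ν j c _) i (Finset.mem_toList.mpr (Finset.mem_univ i)) hi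
    · intro x y hx hy
      have := hadd _ _ hx hy
      simpa only [add_smul] using this
  obtain ⟨b, rfl⟩ := e1_expand (A := A) (n := n) x
  refine Finset.sum_induction _ (fun x => ∃ c : Fin n → S, PL p A S n d 1 x = std p A S n c) hadd ?_
    (fun j _ => hterm (b j) j)
  exact ⟨0, by rw [map_zero, std_zero]⟩

include hd in
theorem pl_std (c : Fin n → S) : PL p A S n d 1 (std p A S n c) = std p A S n c := by
  rw [std, map_sum]
  refine Finset.sum_congr rfl fun j _ => ?_
  have h1 : c j ^ p * (tc A S j) ^ (p - 1) = c j ^ p * mon A S (Finsupp.single j (p - 1)) := by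
    have := mon_smul_add (A := A) (S := S) (p := p) 0 j (p - 1)
    rw [smul_zero, zero_add] at this
    rw [this, mon]
    simp
  rw [h1]
  refine pl_eq_self_of_weight (R := A) (Fact.out (p := p.Prime)) _ 1 _
    (fun i => (Finsupp.single j (p - 1)) i + (if i = j then 1 else 0))
    (fun ν _ => lie_one_term hd ν j (c j) _) (fun ν _ => ?_)
  by_cases h : ν = j
  · subst h
    have hp := (Fact.out (p := p.Prime)).pos
    simp only [Finsupp.single_eq_same, if_true]
    rw [Nat.sub_add_cancel hp]
  · simp only [Finsupp.single_eq_of_ne h, if_neg h]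
    exact dvd_zero p

include hd in
/-- A closed form is a standard form plus an exact form. -/
theorem exists_std (x : ↥(⋀[S]^1 (Ω[S⁄A]))) (hx : d 1 x = 0) :
    ∃ (c : Fin n → S) (b : S), x = std p A S n c + d 0 (b • e0 A S) := by
  obtain ⟨c, hc⟩ := pl_one (p := p) (n := n) hd x
  have hdd : ∀ (p : ℕ) (x : ↥(⋀[S]^p (Ω[S⁄A]))), d (p + 1) (d p x) = 0 := fun q x =>
    LinearMap.congr_fun (hd.2 q) x
  have h1 : x - PL p A S n d 1 x ∈ DeRham.coboundaries d 1 :=
    sub_pl_mem (Fact.out (p := p.Prime)).one_lt hdd _ 1 x hx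
  obtain ⟨y, hy⟩ := h1
  refine ⟨c, zeroEquiv S (Ω[S⁄A]) y, ?_⟩
  have h2 : zeroEquiv S (Ω[S⁄A]) y • e0 A S = y := by
    apply (zeroEquiv S (Ω[S⁄A])).injective
    rw [map_smul, e0, zeroEquiv_ιMulti, smul_eq_mul, mul_one]
  rw [h2, hy, ← hc, add_sub_cancel]

include hd in
/-- A standard form is exact only if it is zero. -/
theorem std_exact (c : Fin n → S) (b : S) (h : std p A S n c = d 0 (b • e0 A S)) : c = 0 := by
  have hdd : ∀ (p : ℕ) (x : ↥(⋀[S]^p (Ω[S⁄A]))), d (p + 1) (d p x) = 0 := fun q x =>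
    LinearMap.congr_fun (hd.2 q) x
  obtain ⟨c', hc'⟩ := pl_zero (p := p) (n := n) hd b
  have h1 : std p A S n c = 0 := by
    rw [← pl_std hd, h]
    have h2 : PL p A S n d 1 (d 0 (b • e0 A S)) = d 0 (PL p A S n d 0 (b • e0 A S)) :=
      pl_d hdd _ 0 _
    rw [h2, hc']
    have h3 : c' ^ p • e0 A S = DeRham.gen (KaehlerDifferential.D A S) 0 (c' ^ p) (fun i => i.elim0) := by
      rw [DeRham.gen, e0]
      congr 2
      funext i
      exact i.elim0
    rw [h3, hd.1, Derivation.leibniz_pow, ← Nat.cast_smul_eq_nsmul S, CharP.cast_eq_zero, zero_smul,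
      ιMulti_succ]
    simp
  have h2 : ∑ j, (c j ^ p * (tc A S j) ^ (p - 1)) • bas A S n j = 0 := by
    have := congrArg (oneEquiv S (Ω[S⁄A])) h1
    rw [std, map_sum, map_zero] at this
    rw [← this]
    refine Finset.sum_congr rfl fun j _ => ?_
    rw [map_smul, e1_eq, LinearEquiv.apply_symm_apply]
  have h3 := Fintype.linearIndependent_iff.mp (bas A S n).linearIndependent _ h2
  funext j
  have h4 : (c j * tc A S j) ^ p = 0 := by
    have h5 : p = (p - 1) + 1 := (Nat.succ_pred_eq_of_pos (Fact.out (p := p.Prime)).pos).symm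
    have h6 : c j ^ p * (tc A S j) ^ ((p - 1) + 1) = 0 := by
      rw [pow_succ (tc A S j), ← mul_assoc, h3 j, zero_mul]
    rw [mul_pow]
    rwa [← h5] at h6
  exact tc_regular (A := A) j _ (reduced A n _ h4)

end

end K852.EtFrob
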