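import Groth.Agent.DeRham.K852.Basic
import Mathlib.Algebra.Polynomial.Laurent
import Mathlib.RingTheory.Kaehler.Polynomial
import Mathlib.RingTheory.Etale.Kaehler

/-!
# Differentials of the ring of Laurent polynomials
-/

set_option autoImplicit false

universe u

open exteriorPower LaurentPolynomial
open scoped TensorProduct

namespace K852.DR

section general

/-- A module generated by fewer than `n` elements has trivial `n`-th exterior power. -/
theorem subsingleton_of_span {A : Type*} {M : Type*} [CommRing A] [AddCommGroup M] [Module A M]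
    {I : Type*} [LinearOrder I] [Fintype I] (v : I → M) (hv : Submodule.span A (Set.range v) = ⊤)
    (n : ℕ) (hn : Fintype.card I < n) : Subsingleton ↥(⋀[A]^n M) := by
  have h := ιMulti_family_span_of_span (n := n) A hv
  have hempty : IsEmpty (Set.powersetCard I n) := by
    constructor
    rintro ⟨s, hs⟩
    have h1 : s.card = n := hs
    have := s.card_le_univ
    omega
  rw [Set.range_eq_empty, Submodule.span_empty] at h
  exact (Submodule.subsingleton_iff A).mp (subsingleton_of_bot_eq_top h)

end general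

variable (k : Type u) [CommRing k]

theorem towerLaurent : IsScalarTower k (Polynomial k) k[T;T⁻¹] :=
  IsScalarTower.of_algebraMap_eq fun r => by
    rw [algebraMap_eq_toLaurent, Polynomial.algebraMap_eq, Polynomial.toLaurent_C, C_eq_algebraMap]

/-- `Ω` of Laurent polynomials is free on `dT`. -/
noncomputable def laurentEquiv : k[T;T⁻¹] ≃ₗ[k[T;T⁻¹]] Ω[k[T;T⁻¹]⁄k] :=
  haveI := towerLaurent k
  haveI := Algebra.FormallyEtale.of_isLocalization (Rₘ := k[T;T⁻¹]) (Submonoid.powers (Polynomial.X : Polynomial k))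
  (TensorProduct.AlgebraTensorModule.rid (Polynomial k) k[T;T⁻¹] k[T;T⁻¹]).symm ≪≫ₗ
    ((KaehlerDifferential.polynomialEquiv k).symm.baseChange (Polynomial k) k[T;T⁻¹] _ _) ≪≫ₗ
    KaehlerDifferential.tensorKaehlerEquivOfFormallyEtale k (Polynomial k) k[T;T⁻¹]

theorem laurentEquiv_one :
    laurentEquiv k 1 = KaehlerDifferential.D k k[T;T⁻¹] (T 1) := by
  have := towerLaurent k
  have := Algebra.FormallyEtale.of_isLocalization (Rₘ := k[T;T⁻¹]) (Submonoid.powers (Polynomial.X : Polynomial k))
  simp [laurentEquiv]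

theorem laurentEquiv_apply (g : k[T;T⁻¹]) :
    laurentEquiv k g = g • KaehlerDifferential.D k k[T;T⁻¹] (T 1) := by
  rw [← laurentEquiv_one, ← map_smul, smul_eq_mul, mul_one]

variable {k} in
/-- `d(T^n) = n T^(n-1) dT` for every derivation. -/
theorem derivation_T {M : Type*} [AddCommGroup M] [Module k M] [Module k[T;T⁻¹] M]
    (δ : Derivation k k[T;T⁻¹] M) (n : ℤ) : δ (T n) = (n • (T (n - 1) : k[T;T⁻¹])) • δ (T 1) := by
  let c : ℤ →+ M := AddMonoidHom.mk' (fun n => (T (-n) : k[T;T⁻¹]) • δ (T n)) (by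
    intro m n
    rw [T_add, Derivation.leibniz, smul_add, smul_smul, smul_smul, ← T_add, ← T_add, add_comm]
    congr 2 <;> ring_nf)
  have h1 : c n = n • c 1 := by
    rw [← map_zsmul, smul_eq_mul, mul_one]
  have h2 : δ (T n) = (T n : k[T;T⁻¹]) • c n := by
    change _ = (T n : k[T;T⁻¹]) • ((T (-n) : k[T;T⁻¹]) • δ (T n))
    rw [smul_smul, ← T_add, add_neg_cancel, T_zero, one_smul]
  rw [h2, h1]
  change (T n : k[T;T⁻¹]) • (n • ((T (-1) : k[T;T⁻¹]) • δ (T 1))) = _
  rw [smul_comm, smul_smul, ← T_add, smul_assoc]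
  rfl

/-- the derivative of a Laurent polynomial -/
noncomputable def lder (f : k[T;T⁻¹]) : k[T;T⁻¹] :=
  (laurentEquiv k).symm (KaehlerDifferential.D k k[T;T⁻¹] f)

theorem D_eq_lder (f : k[T;T⁻¹]) :
    KaehlerDifferential.D k k[T;T⁻¹] f = lder k f • KaehlerDifferential.D k k[T;T⁻¹] (T 1) := by
  rw [← laurentEquiv_apply, lder, LinearEquiv.apply_symm_apply]

theorem lder_add (f g : k[T;T⁻¹]) : lder k (f + g) = lder k f + lder k g := by
  rw [lder, lder, lder, map_add, map_add]

theorem lder_C_mul_T (n : ℤ) (a : k) : lder k (C a * T n) = C (n * a) * T (n - 1) := by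
  rw [lder, ← smul_eq_C_mul, Derivation.map_smul, derivation_T, LinearEquiv.symm_apply_eq, laurentEquiv_apply,
    ← smul_assoc]
  congr 1
  rw [← smul_eq_C_mul, mul_comm, mul_smul, Int.cast_smul_eq_zsmul]

theorem coeff_lder (f : k[T;T⁻¹]) (m : ℤ) :
    (lder k f).coeff m = (m + 1) * f.coeff (m + 1) := by
  induction f using LaurentPolynomial.induction_on' with
  | add f g hf hg =>
    rw [lder_add]
    simp only [AddMonoidAlgebra.coeff_add, Finsupp.add_apply, hf, hg, mul_add]
  | C_mul_T n a =>
    rw [lder_C_mul_T, ← single_eq_C_mul_T, ← single_eq_C_mul_T]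
    simp only [AddMonoidAlgebra.coeff_single, Finsupp.single_apply]
    by_cases h : n = m + 1
    · subst h
      simp
    · rw [if_neg (by omega), if_neg h, mul_zero]

theorem D_eq_zero_iff (f : k[T;T⁻¹]) :
    KaehlerDifferential.D k k[T;T⁻¹] f = 0 ↔ lder k f = 0 := by
  rw [lder, LinearEquiv.map_eq_zero_iff]

end K852.DR
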