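import Groth.Agent.DeRham.K852.CharP
import Groth.Prelude.Def_LogDiff
import Mathlib.RingTheory.Kaehler.Polynomial
import Mathlib.Algebra.MvPolynomial.Expand

/-!
# The logarithmic de Rham complex of affine space in characteristic `p`
-/

set_option autoImplicit false
universe u

open exteriorPower

namespace K852.LogPoly

open K852.DR

section basis

variable {R : Type u} [CommRing R] {n r : ℕ} (hr : r ≤ n)
  {L : Type u} [AddCommGroup L] [Module (MvPolynomial (Fin n) R) L]
  (ι : (Ω[MvPolynomial (Fin n) R⁄R]) →ₗ[MvPolynomial (Fin n) R] L) (dl : Fin r → L)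

/-- the candidate basis vectors: `dl ν` for `ν < r`, `ι (dt_ν)` for `ν ≥ r` -/
noncomputable def bv (ν : Fin n) : L :=
  if h : (ν : ℕ) < r then dl ⟨ν, h⟩ else
    ι (KaehlerDifferential.D R (MvPolynomial (Fin n) R) (MvPolynomial.X ν))

theorem bv_of_lt (ν : Fin n) (h : (ν : ℕ) < r) : bv ι dl ν = dl ⟨ν, h⟩ := dif_pos h

theorem bv_of_le (ν : Fin n) (h : r ≤ (ν : ℕ)) : bv ι dl ν =
    ι (KaehlerDifferential.D R (MvPolynomial (Fin n) R) (MvPolynomial.X ν)) := dif_neg (not_lt.mpr h)

variable {ι dl}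

variable (hL : LogDiff.IsLog (KaehlerDifferential.D R (MvPolynomial (Fin n) R))
      (fun i : Fin r => (MvPolynomial.X (Fin.castLE hr i) : MvPolynomial (Fin n) R)) ι dl)

include hL in
theorem X_smul_bv (ν : Fin n) (h : (ν : ℕ) < r) :
    (MvPolynomial.X ν : MvPolynomial (Fin n) R) • bv ι dl ν =
      ι (KaehlerDifferential.D R (MvPolynomial (Fin n) R) (MvPolynomial.X ν)) := by
  rw [bv_of_lt ι dl ν h]
  exact hL.1 ⟨ν, h⟩

theorem isRegular_prod {J : Type*} (s : Finset J) (f : J → Fin n) :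
    IsRegular (∏ i ∈ s, (MvPolynomial.X (f i) : MvPolynomial (Fin n) R)) := by
  refine Finset.prod_induction _ (fun x => IsRegular x) (fun _ _ h h' => h.mul h') isRegular_one
    fun i _ => MvPolynomial.isRegular_X

include hL in
theorem span_bv : Submodule.span (MvPolynomial (Fin n) R) (Set.range (bv ι dl)) = ⊤ := by
  rw [eq_top_iff, ← hL.2.1, Submodule.span_le]
  rintro x (⟨ω, rfl⟩ | ⟨i, rfl⟩)
  · have hω : ω ∈ Submodule.span (MvPolynomial (Fin n) R)
        (Set.range (KaehlerDifferential.mvPolynomialBasis R (Fin n))) := by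
      rw [(KaehlerDifferential.mvPolynomialBasis R (Fin n)).span_eq]; trivial
    induction hω using Submodule.span_induction with
    | mem x hx =>
      obtain ⟨ν, rfl⟩ := hx
      rw [KaehlerDifferential.mvPolynomialBasis_apply]
      by_cases h : (ν : ℕ) < r
      · rw [← X_smul_bv hr hL ν h]
        exact Submodule.smul_mem _ _ (Submodule.subset_span ⟨ν, rfl⟩)
      · rw [← bv_of_le ι dl ν (not_lt.mp h)]
        exact Submodule.subset_span ⟨ν, rfl⟩
    | zero => rw [map_zero]; exact zero_mem _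
    | add x y _ _ hx hy => rw [map_add]; exact add_mem hx hy
    | smul a x _ hx => rw [map_smul]; exact Submodule.smul_mem _ _ hx
  · refine Submodule.subset_span ⟨Fin.castLE hr i, ?_⟩
    rw [bv_of_lt ι dl _ (by simp)]
    rfl

include hL in
theorem linearIndependent_bv : LinearIndependent (MvPolynomial (Fin n) R) (bv ι dl) := by
  classical
  rw [Fintype.linearIndependent_iff]
  intro g hg
  set F : MvPolynomial (Fin n) R := ∏ i : Fin r, MvPolynomial.X (Fin.castLE hr i) with hF
  have hFreg : IsRegular F := isRegular_prod Finset.univ (Fin.castLE hr)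
  have hcf : ∀ ν : Fin n, ∃ c : MvPolynomial (Fin n) R, IsRegular c ∧
      F • bv ι dl ν = ι (c • KaehlerDifferential.D R (MvPolynomial (Fin n) R) (MvPolynomial.X ν)) := by
    intro ν
    by_cases h : (ν : ℕ) < r
    · refine ⟨∏ i ∈ Finset.univ.erase (⟨ν, h⟩ : Fin r), MvPolynomial.X (Fin.castLE hr i),
        isRegular_prod _ _, ?_⟩
      have h1 : F = (∏ i ∈ Finset.univ.erase (⟨ν, h⟩ : Fin r), MvPolynomial.X (Fin.castLE hr i)) *
          MvPolynomial.X ν := by
        have h2 := Finset.mul_prod_erase Finset.univ (fun i : Fin r => (MvPolynomial.X (Fin.castLE hr i) :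
          MvPolynomial (Fin n) R)) (Finset.mem_univ (⟨ν, h⟩ : Fin r))
        have h3 : Fin.castLE hr ⟨ν, h⟩ = ν := rfl
        rw [h3] at h2
        rw [hF, ← h2, mul_comm]
      rw [h1, mul_smul, X_smul_bv hr hL ν h, map_smul]
    · exact ⟨F, hFreg, by rw [bv_of_le ι dl ν (not_lt.mp h), map_smul]⟩
  choose c hc hcb using hcf
  have h1 : ι (∑ ν, (g ν * c ν) • KaehlerDifferential.D R (MvPolynomial (Fin n) R) (MvPolynomial.X ν)) = 0 := by
    rw [map_sum, ← smul_zero F, ← hg, Finset.smul_sum]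
    refine Finset.sum_congr rfl fun ν _ => ?_
    rw [smul_comm, hcb, mul_smul, map_smul]
  rw [hL.2.2.2] at h1
  obtain ⟨N, hN⟩ := h1
  intro ν
  have h2 := Fintype.linearIndependent_iff.mp (KaehlerDifferential.mvPolynomialBasis R (Fin n)).linearIndependent
    (fun ν => F ^ N * (g ν * c ν)) (by
      rw [← hN, Finset.smul_sum]
      refine Finset.sum_congr rfl fun ν _ => ?_
      rw [KaehlerDifferential.mvPolynomialBasis_apply, mul_smul]) ν
  have h3 : g ν * c ν = 0 := (hFreg.pow N).left (by simpa using h2)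
  exact (hc ν).right (by simpa using h3)

/-- the basis of the module of log differentials -/
noncomputable def lb : Module.Basis (Fin n) (MvPolynomial (Fin n) R) L :=
  Module.Basis.mk (linearIndependent_bv hr hL) (by rw [span_bv hr hL])

theorem lb_apply (ν : Fin n) : lb hr hL ν = bv ι dl ν := by rw [lb, Module.Basis.mk_apply]

theorem D_eq_sum (f : MvPolynomial (Fin n) R) : KaehlerDifferential.D R (MvPolynomial (Fin n) R) f =
    ∑ ν, MvPolynomial.pderiv ν f • KaehlerDifferential.D R (MvPolynomial (Fin n) R) (MvPolynomial.X ν) := by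
  have h := (KaehlerDifferential.mvPolynomialBasis R (Fin n)).sum_repr
    (KaehlerDifferential.D R (MvPolynomial (Fin n) R) f)
  rw [← h]
  refine Finset.sum_congr rfl fun ν _ => ?_
  rw [KaehlerDifferential.mvPolynomialBasis_repr_apply, KaehlerDifferential.mvPolynomialBasis_apply]

theorem repr_ιD (f : MvPolynomial (Fin n) R) (ν : Fin n) :
    (lb hr hL).repr (ι (KaehlerDifferential.D R (MvPolynomial (Fin n) R) f)) ν =
      (if (ν : ℕ) < r then MvPolynomial.X ν else 1) * MvPolynomial.pderiv ν f := by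
  have h1 : ι (KaehlerDifferential.D R (MvPolynomial (Fin n) R) f) =
      ∑ ν : Fin n, ((if (ν : ℕ) < r then MvPolynomial.X ν else 1) * MvPolynomial.pderiv ν f) • lb hr hL ν := by
    rw [D_eq_sum, map_sum]
    refine Finset.sum_congr rfl fun ν _ => ?_
    rw [map_smul, lb_apply, mul_comm, mul_smul]
    congr 1
    split_ifs with h
    · exact (X_smul_bv hr hL ν h).symm
    · rw [one_smul, bv_of_le ι dl ν (not_lt.mp h)]
  rw [h1, Module.Basis.repr_sum_self]

/-- the dual vector fields `t_ν ∂_ν` -/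
noncomputable def φ (ν : Fin n) : Module.Dual (MvPolynomial (Fin n) R) L :=
  (if (ν : ℕ) < r then 1 else MvPolynomial.X ν : MvPolynomial (Fin n) R) • (lb hr hL).coord ν

theorem φ_ιD (f : MvPolynomial (Fin n) R) (ν : Fin n) :
    φ hr hL ν (ι (KaehlerDifferential.D R (MvPolynomial (Fin n) R) f)) =
      MvPolynomial.X ν * MvPolynomial.pderiv ν f := by
  rw [φ, LinearMap.smul_apply, Module.Basis.coord_apply, repr_ιD, smul_eq_mul, ← mul_assoc]
  congr 1
  split_ifs <;> simp

theorem φ_lb (μ ν : Fin n) :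
    φ hr hL ν (lb hr hL μ) = if μ = ν then (if (ν : ℕ) < r then 1 else MvPolynomial.X ν) else 0 := by
  rw [φ, LinearMap.smul_apply, Module.Basis.coord_apply, Module.Basis.repr_self, Finsupp.single_apply,
    smul_eq_mul]
  split_ifs <;> simp

end basis

section cnt

variable {n : ℕ}

/-- the number of `i` with `τ i = ν`, for `ν ≥ r` -/
def cnt (r : ℕ) (ν : Fin n) {q : ℕ} (τ : Fin q → Fin n) : ℕ :=
  ∑ i, if τ i = ν ∧ r ≤ (ν : ℕ) then 1 else 0

theorem cnt_le_one (r : ℕ) (ν : Fin n) {q : ℕ} (τ : Fin q → Fin n) (hτ : Function.Injective τ) :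
    cnt r ν τ ≤ 1 := by
  rw [cnt, ← Finset.card_filter, Finset.card_le_one]
  intro a ha b hb
  rw [Finset.mem_filter] at ha hb
  exact hτ (ha.2.1.trans hb.2.1.symm)

theorem cnt_eq_zero (r : ℕ) (ν : Fin n) {q : ℕ} (τ : Fin q → Fin n) (hτ : ν ∉ Set.range τ) :
    cnt r ν τ = 0 := by
  rw [cnt, Finset.sum_eq_zero]
  intro i _
  rw [if_neg]
  exact fun h => hτ ⟨i, h.1⟩

end cnt

end K852.LogPoly
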