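import Groth.Agent.DeRham.K852.LogPoly

/-!
# The logarithmic de Rham complex of affine space in characteristic `p`: cohomology
-/

set_option autoImplicit false
universe u

open exteriorPower

namespace K852.LogPoly

open K852.DR

variable {p : ℕ} {R : Type u} [CommRing R] {n r : ℕ} (hr : r ≤ n)
  {L : Type u} [AddCommGroup L] [Module (MvPolynomial (Fin n) R) L] [Module R L]
  [IsScalarTower R (MvPolynomial (Fin n) R) L]
  {ι : (Ω[MvPolynomial (Fin n) R⁄R]) →ₗ[MvPolynomial (Fin n) R] L} {dl : Fin r → L}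
  (hL : LogDiff.IsLog (KaehlerDifferential.D R (MvPolynomial (Fin n) R))
      (fun i : Fin r => (MvPolynomial.X (Fin.castLE hr i) : MvPolynomial (Fin n) R)) ι dl)
  {d : ∀ q : ℕ, ↥(⋀[MvPolynomial (Fin n) R]^q L) →ₗ[R] ↥(⋀[MvPolynomial (Fin n) R]^(q + 1) L)}
  (hlog : LogDiff.IsLogRule (KaehlerDifferential.D R (MvPolynomial (Fin n) R)) ι dl d)

/-- the closed one-forms of the rule -/
def clF (ι : (Ω[MvPolynomial (Fin n) R⁄R]) →ₗ[MvPolynomial (Fin n) R] L) (dl : Fin r → L) : Set L :=
  {v | (∃ b, v = ι (KaehlerDifferential.D R (MvPolynomial (Fin n) R) b)) ∨ ∃ i, v = dl i}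

include hlog in
theorem ruleOn_clF : RuleOn (ι.compDer (KaehlerDifferential.D R (MvPolynomial (Fin n) R))) (clF ι dl) d := by
  intro q b₀ v hv
  rw [hlog q b₀ v hv, ιMulti_cons]
  rfl

omit [Module R L] [IsScalarTower R (MvPolynomial (Fin n) R) L] in
theorem lb_mem_clF (ν : Fin n) : lb hr hL ν ∈ clF ι dl := by
  rw [lb_apply]
  by_cases h : (ν : ℕ) < r
  · exact Or.inr ⟨_, bv_of_lt ι dl ν h⟩
  · exact Or.inl ⟨_, bv_of_le ι dl ν (not_lt.mp h)⟩

omit [Module R L] [IsScalarTower R (MvPolynomial (Fin n) R) L] in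
include hL in
theorem span_clF : Submodule.span (MvPolynomial (Fin n) R) (clF ι dl) = ⊤ := by
  rw [eq_top_iff, ← span_bv hr hL]
  refine Submodule.span_mono ?_
  rintro _ ⟨ν, rfl⟩
  rw [← lb_apply hr hL]
  exact lb_mem_clF hr hL ν

include hlog in
theorem lie_lb (ν : Fin n) (q : ℕ) (τ : Fin q → Fin n) :
    lie d (φ hr hL ν) q (ιMulti (MvPolynomial (Fin n) R) q (fun i => lb hr hL (τ i))) =
      cnt r ν τ • ιMulti (MvPolynomial (Fin n) R) q (fun i => lb hr hL (τ i)) := by
  have hrule := ruleOn_clF hlog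
  have hspan := span_clF hr hL
  induction q with
  | zero =>
    have h1 : ιMulti (MvPolynomial (Fin n) R) 0 (fun i => lb hr hL (τ i)) =
      (1 : MvPolynomial (Fin n) R) • ιMulti (MvPolynomial (Fin n) R) 0 (fun i => lb hr hL (τ i)) :=
      (one_smul _ _).symm
    rw [lie_zero, h1, hrule 0 1 _ (fun i => i.elim0), Derivation.map_one_eq_zero, cnt]
    simp
  | succ q ih =>
    rw [ιMulti_succ, lie_wedge1_G hspan hrule _ q _ (lb_mem_clF hr hL _), ih (fun i => τ i.succ), φ_lb,
      cnt, cnt, Fin.sum_univ_succ, add_smul, map_nsmul]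
    congr 1
    by_cases h : τ 0 = ν
    · rw [if_pos h]
      by_cases h' : (ν : ℕ) < r
      · rw [if_pos h', Derivation.map_one_eq_zero, if_neg (fun h'' => absurd h''.2 (not_le.mpr h')), zero_smul,
          map_zero, LinearMap.zero_apply]
      · rw [if_neg h', if_pos ⟨h, not_lt.mp h'⟩, one_smul]
        congr 2
        rw [h, lb_apply, bv_of_le ι dl ν (not_lt.mp h')]
        rfl
    · rw [if_neg h, if_neg (fun h'' => h h''.1), zero_smul, map_zero, map_zero, LinearMap.zero_apply]

include hlog in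
theorem lie_monomial (ν : Fin n) (q : ℕ) (τ : Fin q → Fin n) (m : Fin n →₀ ℕ) (c : R) :
    lie d (φ hr hL ν) q (MvPolynomial.monomial m c •
      ιMulti (MvPolynomial (Fin n) R) q (fun i => lb hr hL (τ i))) =
      (m ν + cnt r ν τ) • (MvPolynomial.monomial m c •
        ιMulti (MvPolynomial (Fin n) R) q (fun i => lb hr hL (τ i))) := by
  rw [lie_smul_G (span_clF hr hL) (ruleOn_clF hlog), lie_lb hr hL hlog]
  have : φ hr hL ν ((ι.compDer (KaehlerDifferential.D R (MvPolynomial (Fin n) R)))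
      (MvPolynomial.monomial m c)) = m ν • MvPolynomial.monomial m c := by
    change φ hr hL ν (ι (KaehlerDifferential.D R _ _)) = _
    rw [φ_ιD, MvPolynomial.X_mul_pderiv_monomial]
  rw [this, add_smul, smul_assoc]
  congr 1
  rw [smul_comm]

/-- forms all of whose weights are divisible by `p` -/
noncomputable def P0 (p : ℕ) (q : ℕ) : AddSubgroup ↥(⋀[MvPolynomial (Fin n) R]^q L) :=
  AddSubgroup.closure {x | ∃ (τ : Fin q ↪o Fin n) (m : Fin n →₀ ℕ) (c : R),
    (∀ ν, p ∣ m ν + cnt r ν τ) ∧ x = MvPolynomial.monomial m c •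
      ιMulti (MvPolynomial (Fin n) R) q (fun i => lb hr hL (τ i))}

omit [Module R L] [IsScalarTower R (MvPolynomial (Fin n) R) L] in
theorem mon_induction (q : ℕ) {P : ↥(⋀[MvPolynomial (Fin n) R]^q L) → Prop}
    (hg : ∀ (m : Fin n →₀ ℕ) (c : R) (τ : Fin q ↪o Fin n), P (MvPolynomial.monomial m c •
      ιMulti (MvPolynomial (Fin n) R) q (fun i => lb hr hL (τ i)))) (h0 : P 0)
    (hadd : ∀ x y, P x → P y → P (x + y)) (x : ↥(⋀[MvPolynomial (Fin n) R]^q L)) : P x := by
  have hx : x ∈ Submodule.span (MvPolynomial (Fin n) R)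
      (Set.range ((lb hr hL).exteriorPower q)) := by
    rw [((lb hr hL).exteriorPower q).span_eq]; trivial
  rw [Submodule.mem_span_set'] at hx
  obtain ⟨N, f, g, rfl⟩ := hx
  refine Finset.sum_induction _ P hadd h0 fun i _ => ?_
  obtain ⟨s, hs⟩ := (g i).2
  rw [← hs, basis_apply]
  generalize f i = f
  induction f using MvPolynomial.induction_on' with
  | monomial m c => exact hg m c (Set.powersetCard.ofFinEmbEquiv.symm s)
  | add f f' hf hf' => rw [add_smul]; exact hadd _ _ hf hf'

include hlog in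
theorem pl_mem_P0 [CharP R p] (hp : p.Prime) (q : ℕ) (x : ↥(⋀[MvPolynomial (Fin n) R]^q L)) :
    pl d (φ hr hL) p Finset.univ.toList q x ∈ P0 hr hL p q := by
  refine mon_induction hr hL q
    (P := fun x => pl d (φ hr hL) p Finset.univ.toList q x ∈ P0 hr hL p q) ?_ ?_ ?_ x
  · intro m c τ
    have hw : ∀ ν ∈ (Finset.univ : Finset (Fin n)).toList, lie d (φ hr hL ν) q (MvPolynomial.monomial m c •
        ιMulti (MvPolynomial (Fin n) R) q (fun i => lb hr hL (τ i))) =
        (m ν + cnt r ν τ) • (MvPolynomial.monomial m c •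
          ιMulti (MvPolynomial (Fin n) R) q (fun i => lb hr hL (τ i))) :=
      fun ν _ => lie_monomial hr hL hlog ν q τ m c
    by_cases h : ∀ ν, p ∣ m ν + cnt r ν τ
    · rw [pl_eq_self_of_weight hp _ q _ (fun ν => m ν + cnt r ν τ) hw (fun ν _ => h ν)]
      exact AddSubgroup.subset_closure ⟨τ, m, c, h, rfl⟩
    · push Not at h
      obtain ⟨ν, hν⟩ := h
      rw [pl_eq_zero_of_weight hp _ q _ (fun ν => m ν + cnt r ν τ) hw ν (by simp) hν]
      exact zero_mem _
  · rw [map_zero]; exact zero_mem _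
  · intro x y hx hy; rw [map_add]; exact add_mem hx hy

include hlog in
theorem pl_eq_of_mem_P0 [CharP R p] (hp : p.Prime) (q : ℕ) (x : ↥(⋀[MvPolynomial (Fin n) R]^q L))
    (hx : x ∈ P0 hr hL p q) : pl d (φ hr hL) p Finset.univ.toList q x = x := by
  induction hx using AddSubgroup.closure_induction with
  | zero => rw [map_zero]
  | add x y _ _ hx hy => rw [map_add, hx, hy]
  | neg x _ hx => rw [map_neg, hx]
  | mem x hx =>
    obtain ⟨τ, m, c, h, rfl⟩ := hx
    exact pl_eq_self_of_weight hp _ q _ (fun ν => m ν + cnt r ν τ)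
      (fun ν _ => lie_monomial hr hL hlog ν q τ m c) (fun ν _ => h ν)

include hlog in
theorem d_eq_zero_of_mem_P0 [CharP R p] (q : ℕ) (x : ↥(⋀[MvPolynomial (Fin n) R]^q L))
    (hx : x ∈ P0 hr hL p q) : d q x = 0 := by
  induction hx using AddSubgroup.closure_induction with
  | zero => rw [map_zero]
  | add x y _ _ hx hy => rw [map_add, hx, hy, add_zero]
  | neg x _ hx => rw [map_neg, hx, neg_zero]
  | mem x hx =>
    obtain ⟨τ, m, c, h, rfl⟩ := hx
    rw [ruleOn_clF hlog q _ _ (fun i => lb_mem_clF hr hL _), wedge1_eq_sum (lb hr hL)]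
    refine Finset.sum_eq_zero fun ν _ => ?_
    by_cases hν : ν ∈ Set.range τ
    · obtain ⟨i, rfl⟩ := hν
      have : wedge1 q (lb hr hL (τ i)) (ιMulti (MvPolynomial (Fin n) R) q (fun i => lb hr hL (τ i))) = 0 := by
        rw [wedge1_ιMulti]
        apply AlternatingMap.map_eq_zero_of_eq _ _ (i := 0) (j := i.succ)
        · simp
        · exact (Fin.succ_ne_zero i).symm
      rw [this, smul_zero]
    · have h1 := h ν
      rw [cnt_eq_zero r ν τ hν, add_zero] at h1
      have h2 : (lb hr hL).repr ((ι.compDer (KaehlerDifferential.D R (MvPolynomial (Fin n) R)))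
          (MvPolynomial.monomial m c)) ν = 0 := by
        change (lb hr hL).repr (ι (KaehlerDifferential.D R _ _)) ν = 0
        rw [repr_ιD, MvPolynomial.pderiv_monomial, (CharP.cast_eq_zero_iff R p _).mpr h1, mul_zero,
          MvPolynomial.monomial_zero, mul_zero]
      rw [h2, zero_smul]

/-- the scalars `t_ν^(p-1)` for `ν ≥ r` -/
noncomputable def tc (R : Type u) [CommRing R] (p r : ℕ) {n : ℕ} (ν : Fin n) : MvPolynomial (Fin n) R :=
  if (ν : ℕ) < r then 1 else MvPolynomial.X ν ^ (p - 1)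

theorem prod_tc (p r : ℕ) {n q : ℕ} (τ : Fin q → Fin n) :
    ∃ M : Fin n →₀ ℕ, (∀ ν, M ν = (p - 1) * cnt r ν τ) ∧
      ∏ j, tc R p r (τ j) = MvPolynomial.monomial M 1 := by
  refine ⟨∑ j, if (τ j : ℕ) < r then 0 else Finsupp.single (τ j) (p - 1), fun ν => ?_, ?_⟩
  · rw [Finsupp.finsetSum_apply, cnt, Finset.mul_sum]
    refine Finset.sum_congr rfl fun j _ => ?_
    by_cases h : (τ j : ℕ) < r
    · rw [if_pos h, if_neg]
      · simp
      · rintro ⟨h1, h2⟩
        rw [h1] at h; omega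
    · rw [if_neg h, Finsupp.single_apply]
      by_cases h' : τ j = ν
      · rw [if_pos h', if_pos ⟨h', by rw [← h']; omega⟩, mul_one]
      · rw [if_neg h', if_neg (fun h'' => h' h''.1), mul_zero]
  · rw [MvPolynomial.monomial_sum_one]
    refine Finset.prod_congr rfl fun j _ => ?_
    rw [tc]
    split_ifs with h
    · rfl
    · rw [MvPolynomial.X_pow_eq_monomial]

omit [Module R L] [IsScalarTower R (MvPolynomial (Fin n) R) L] in
theorem expand_smul_mem_P0 (hp : 0 < p) (q : ℕ) (τ : Fin q ↪o Fin n) (g : MvPolynomial (Fin n) R) :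
    MvPolynomial.expand p g • ((∏ j, tc R p r (τ j)) •
      ιMulti (MvPolynomial (Fin n) R) q (fun i => lb hr hL (τ i))) ∈ P0 hr hL p q := by
  obtain ⟨M, hM, hprod⟩ := prod_tc (R := R) p r τ
  rw [hprod]
  induction g using MvPolynomial.induction_on' with
  | monomial m c =>
    refine AddSubgroup.subset_closure ⟨τ, p • m + M, c, fun ν => ?_, ?_⟩
    · rw [Finsupp.add_apply, hM, Finsupp.smul_apply, smul_eq_mul]
      refine ⟨m ν + cnt r ν τ, ?_⟩
      obtain ⟨p, rfl⟩ := Nat.exists_eq_succ_of_ne_zero hp.ne'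
      simp only [Nat.succ_eq_add_one, Nat.add_sub_cancel]
      ring
    · rw [MvPolynomial.expand_monomial, smul_smul, MvPolynomial.monomial_mul, mul_one]
  | add g g' hg hg' => rw [map_add, add_smul]; exact add_mem hg hg'

omit [Module R L] [IsScalarTower R (MvPolynomial (Fin n) R) L] in
theorem exists_expand (hp : 0 < p) (q : ℕ) (τ : Fin q ↪o Fin n) (m : Fin n →₀ ℕ) (c : R)
    (h : ∀ ν, p ∣ m ν + cnt r ν τ) :
    ∃ g : MvPolynomial (Fin n) R, MvPolynomial.monomial m c •
      ιMulti (MvPolynomial (Fin n) R) q (fun i => lb hr hL (τ i)) =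
      MvPolynomial.expand p g • ((∏ j, tc R p r (τ j)) •
        ιMulti (MvPolynomial (Fin n) R) q (fun i => lb hr hL (τ i))) := by
  obtain ⟨M, hM, hprod⟩ := prod_tc (R := R) p r τ
  choose K hK using h
  refine ⟨MvPolynomial.monomial (Finsupp.equivFunOnFinite.symm fun ν => K ν - cnt r ν τ) c, ?_⟩
  rw [hprod, MvPolynomial.expand_monomial, smul_smul, MvPolynomial.monomial_mul, mul_one]
  congr 3
  ext ν
  rw [Finsupp.add_apply, hM, Finsupp.smul_apply, smul_eq_mul]
  change m ν = p * (K ν - cnt r ν τ) + (p - 1) * cnt r ν τ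
  have h1 := hK ν
  have h2 := cnt_le_one r ν τ τ.injective
  rcases Nat.le_one_iff_eq_zero_or_eq_one.mp h2 with h3 | h3
  · rw [h3] at h1 ⊢
    simpa using h1
  · rw [h3] at h1 ⊢
    have h4 : 0 < K ν := by
      by_contra h4
      have : K ν = 0 := by omega
      rw [this] at h1; omega
    obtain ⟨K', hK'⟩ := Nat.exists_eq_succ_of_ne_zero h4.ne'
    obtain ⟨p', rfl⟩ := Nat.exists_eq_succ_of_ne_zero hp.ne'
    rw [hK'] at h1 ⊢
    simp only [Nat.succ_eq_add_one, Nat.add_sub_cancel, mul_one] at h1 ⊢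
    have h5 : (p' + 1) * (K' + 1) = (p' + 1) * K' + p' + 1 := by ring
    omega

omit [Module R L] [IsScalarTower R (MvPolynomial (Fin n) R) L] in
theorem mem_P0_iff (hp : 0 < p) (a : ℕ) (e : Finset (Fin n) → ↥(⋀[MvPolynomial (Fin n) R]^a L))
    (he : ∀ (s : Finset (Fin n)) (hs : s.card = a),
      e s = (∏ j, tc R p r (s.orderEmbOfFin hs j)) •
        ιMulti (MvPolynomial (Fin n) R) a (fun j => lb hr hL (s.orderEmbOfFin hs j)))
    (x : ↥(⋀[MvPolynomial (Fin n) R]^a L)) : x ∈ P0 hr hL p a ↔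
      ∃ g : Finset (Fin n) → MvPolynomial (Fin n) R,
        x = ∑ s ∈ Finset.powersetCard a Finset.univ, MvPolynomial.expand p (g s) • e s := by
  classical
  constructor
  · intro hx
    induction hx using AddSubgroup.closure_induction with
    | zero => exact ⟨0, by simp⟩
    | add x y _ _ hx hy =>
      obtain ⟨g, rfl⟩ := hx
      obtain ⟨g', rfl⟩ := hy
      refine ⟨g + g', ?_⟩
      rw [← Finset.sum_add_distrib]
      refine Finset.sum_congr rfl fun s _ => ?_
      rw [Pi.add_apply, map_add, add_smul]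
    | neg x _ hx =>
      obtain ⟨g, rfl⟩ := hx
      refine ⟨-g, ?_⟩
      rw [← Finset.sum_neg_distrib]
      refine Finset.sum_congr rfl fun s _ => ?_
      rw [Pi.neg_apply, map_neg]
      exact (neg_smul _ _).symm
    | mem x hx =>
      obtain ⟨τ, m, c, h, rfl⟩ := hx
      obtain ⟨g, hg⟩ := exists_expand hr hL hp a τ m c h
      set S : Finset (Fin n) := Finset.univ.map τ.toEmbedding with hS
      have hcard : S.card = a := by rw [hS, Finset.card_map, Finset.card_univ, Fintype.card_fin]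
      have hτ : τ = S.orderEmbOfFin hcard := by
        apply Finset.orderEmbOfFin_unique'
        intro i
        exact Finset.mem_map.mpr ⟨i, Finset.mem_univ _, rfl⟩
      refine ⟨fun s => if s = S then g else 0, ?_⟩
      rw [Finset.sum_eq_single S]
      · dsimp only
        rw [if_pos rfl, hg, he S hcard, ← hτ]
      · intro s _ hs
        dsimp only
        rw [if_neg hs, map_zero, zero_smul]
      · intro h'
        exact absurd (Finset.mem_powersetCard.mpr ⟨Finset.subset_univ _, hcard⟩) h'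
  · rintro ⟨g, rfl⟩
    refine AddSubgroup.sum_mem _ fun s hs => ?_
    have hcard := (Finset.mem_powersetCard.mp hs).2
    rw [he s hcard]
    exact expand_smul_mem_P0 hr hL hp a (s.orderEmbOfFin hcard) (g s)

end K852.LogPoly
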