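import Mathlib.RingTheory.Kaehler.Polynomial
import Mathlib.RingTheory.MvPolynomial.Ideal
import Mathlib.Algebra.Polynomial.Derivative
import Mathlib.Algebra.MvPolynomial.PDeriv
import Mathlib.LinearAlgebra.TensorProduct.Basis

/-!
# Differentials of the node `k[X, Y]/(XY)`
-/

set_option autoImplicit false

universe u

open scoped TensorProduct

namespace K852.Node

variable (k : Type u) [Field k]

/-- the coordinate ring of the node -/
abbrev NodeRing : Type u :=
  MvPolynomial (Fin 2) k ⧸ Ideal.span {(MvPolynomial.X 0 * MvPolynomial.X 1 : MvPolynomial (Fin 2) k)}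

/-- the substitution `X_i ↦ X`, other variable `↦ 0` -/
noncomputable def sub (i : Fin 2) : MvPolynomial (Fin 2) k →ₐ[k] Polynomial k :=
  MvPolynomial.aeval (fun j => if j = i then Polynomial.X else 0)

theorem coeff_sub (i : Fin 2) (f : MvPolynomial (Fin 2) k) (n : ℕ) :
    (sub k i f).coeff n = MvPolynomial.coeff (Finsupp.single i n) f := by
  induction f using MvPolynomial.induction_on' with
  | monomial m a =>
    rw [sub, MvPolynomial.aeval_monomial, MvPolynomial.coeff_monomial]
    rw [Finsupp.prod_fintype _ _ (fun i => pow_zero _)]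
    fin_cases i
    · simp only [Fin.zero_eta, Fin.prod_univ_two, if_true, Fin.isValue, one_ne_zero, if_false,
        Polynomial.algebraMap_eq]
      by_cases h1 : m 1 = 0
      · rw [h1, pow_zero, mul_one, Polynomial.coeff_C_mul_X_pow]
        congr 1
        rw [eq_iff_iff]
        constructor
        · rintro rfl
          ext j; fin_cases j <;> simp [h1]
        · intro h; rw [h]; simp
      · rw [zero_pow h1, mul_zero, mul_zero, Polynomial.coeff_zero, if_neg]
        rintro rfl
        simp at h1
    · simp only [Fin.mk_one, Fin.prod_univ_two, if_true, Fin.isValue, zero_ne_one, if_false,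
        Polynomial.algebraMap_eq]
      by_cases h1 : m 0 = 0
      · rw [h1, pow_zero, one_mul, Polynomial.coeff_C_mul_X_pow]
        congr 1
        rw [eq_iff_iff]
        constructor
        · rintro rfl
          ext j; fin_cases j <;> simp [h1]
        · intro h; rw [h]; simp
      · rw [zero_pow h1, zero_mul, mul_zero, Polynomial.coeff_zero, if_neg]
        rintro rfl
        simp at h1
  | add p q hp hq => rw [map_add, Polynomial.coeff_add, hp, hq, MvPolynomial.coeff_add]

/-- the substitution descends to the node -/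
noncomputable def nsub (i : Fin 2) : NodeRing k →ₐ[k] Polynomial k :=
  Ideal.Quotient.liftₐ _ (sub k i) (by
    intro a ha
    rw [Ideal.mem_span_singleton] at ha
    obtain ⟨c, rfl⟩ := ha
    fin_cases i <;> simp [sub])

theorem nsub_mk (i : Fin 2) (f : MvPolynomial (Fin 2) k) :
    nsub k i (Ideal.Quotient.mk _ f) = sub k i f := rfl

theorem ext_nsub (P Q : NodeRing k) (h : ∀ i, nsub k i P = nsub k i Q) : P = Q := by
  rw [← sub_eq_zero]
  have h' : ∀ i, nsub k i (P - Q) = 0 := fun i => by rw [map_sub, h i, sub_self]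
  generalize P - Q = P at h'
  obtain ⟨f, rfl⟩ := Ideal.Quotient.mk_surjective P
  rw [Ideal.Quotient.eq_zero_iff_mem]
  have h1 : ({(MvPolynomial.X 0 * MvPolynomial.X 1 : MvPolynomial (Fin 2) k)} : Set _) =
      (fun s => MvPolynomial.monomial s (1 : k)) '' {Finsupp.single 0 1 + Finsupp.single 1 1} := by
    rw [Set.image_singleton, MvPolynomial.X, MvPolynomial.X, MvPolynomial.monomial_mul, one_mul]
  rw [h1, MvPolynomial.mem_ideal_span_monomial_image]
  intro m hm
  refine ⟨_, rfl, ?_⟩
  rw [MvPolynomial.mem_support_iff] at hm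
  have hne : ∀ i, m ≠ Finsupp.single i (m i) := by
    intro i hi
    apply hm
    rw [hi, ← coeff_sub, ← nsub_mk, h' i, Polynomial.coeff_zero]
  have h0 : m 0 ≠ 0 := by
    intro h0
    apply hne 1
    ext j; fin_cases j <;> simp [h0]
  have h1' : m 1 ≠ 0 := by
    intro h0
    apply hne 0
    ext j; fin_cases j <;> simp [h0]
  intro j
  fin_cases j <;> simp <;> omega

theorem nsub_const [CharZero k] (i : Fin 2) (P : NodeRing k)
    (h : KaehlerDifferential.D k (Polynomial k) (nsub k i P) = 0) :
    nsub k i P = Polynomial.C ((nsub k i P).coeff 0) := by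
  apply Polynomial.eq_C_of_derivative_eq_zero
  rw [← KaehlerDifferential.polynomialEquiv_D, h, map_zero]

theorem eq_const [CharZero k] (P : NodeRing k)
    (h : ∀ i, KaehlerDifferential.D k (Polynomial k) (nsub k i P) = 0) :
    P ∈ Set.range (algebraMap k (NodeRing k)) := by
  refine ⟨(nsub k 0 P).coeff 0, ?_⟩
  apply ext_nsub
  intro i
  rw [AlgHom.commutes, Polynomial.algebraMap_eq]
  have h01 : (nsub k 0 P).coeff 0 = (nsub k 1 P).coeff 0 := by
    obtain ⟨f, rfl⟩ := Ideal.Quotient.mk_surjective P
    rw [nsub_mk, nsub_mk, coeff_sub, coeff_sub, Finsupp.single_zero, Finsupp.single_zero]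
  fin_cases i
  · exact (nsub_const k 0 P (h 0)).symm
  · change Polynomial.C _ = nsub k 1 P
    rw [h01]
    exact (nsub_const k 1 P (h 1)).symm

/-- the map on differentials induced by an algebra map, on exact forms -/
theorem D_algHom {A B : Type*} [CommRing A] [CommRing B] [Algebra k A] [Algebra k B] (φ : A →ₐ[k] B) :
    ∃ F : Ω[A⁄k] →+ Ω[B⁄k], (∀ (a : A) (x : Ω[A⁄k]), F (a • x) = φ a • F x) ∧
      ∀ a, F (KaehlerDifferential.D k A a) = KaehlerDifferential.D k B (φ a) := by
  let : Algebra A B := φ.toRingHom.toAlgebra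
  have : IsScalarTower k A B := IsScalarTower.of_algebraMap_eq (fun r => (φ.commutes r).symm)
  refine ⟨(KaehlerDifferential.map k k A B).toAddMonoidHom, fun a x => ?_, fun a => ?_⟩
  · change KaehlerDifferential.map k k A B (a • x) = _
    rw [map_smul, ← algebraMap_smul B a]; rfl
  · exact KaehlerDifferential.map_D k k A B a

/-- the form `X dY` on the node is not zero -/
theorem X_dY_ne_zero :
    (Ideal.Quotient.mk _ (MvPolynomial.X 0) : NodeRing k) •
      KaehlerDifferential.D k (NodeRing k) (Ideal.Quotient.mk _ (MvPolynomial.X 1)) ≠ 0 := by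
  intro h
  set P := MvPolynomial (Fin 2) k
  set I : Ideal P := Ideal.span {(MvPolynomial.X 0 * MvPolynomial.X 1 : P)} with hI
  have hsurj : Function.Surjective (algebraMap P (NodeRing k)) := Ideal.Quotient.mk_surjective
  have hker : RingHom.ker (algebraMap P (NodeRing k)) = I := Ideal.mk_ker
  have h1 : KaehlerDifferential.mapBaseChange k P (NodeRing k)
      ((Ideal.Quotient.mk I (MvPolynomial.X 0)) ⊗ₜ[P] KaehlerDifferential.D k P (MvPolynomial.X 1)) = 0 := by
    rw [KaehlerDifferential.mapBaseChange_tmul, KaehlerDifferential.map_D]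
    exact h
  obtain ⟨c, hc⟩ := (KaehlerDifferential.exact_kerCotangentToTensor_mapBaseChange k P (NodeRing k) hsurj _).mp h1
  obtain ⟨⟨z, hz⟩, rfl⟩ := Ideal.toCotangent_surjective _ c
  rw [KaehlerDifferential.kerCotangentToTensor_toCotangent] at hc
  rw [hker, hI, Ideal.mem_span_singleton] at hz
  obtain ⟨g, rfl⟩ := hz
  let B := (KaehlerDifferential.mvPolynomialBasis k (Fin 2)).baseChange (NodeRing k)
  have hcoord : ∀ (i : Fin 2) (a : NodeRing k) (f : P), B.repr (a ⊗ₜ[P] KaehlerDifferential.D k P f) i =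
      a * Ideal.Quotient.mk I (MvPolynomial.pderiv i f) := by
    intro i a f
    rw [Module.Basis.baseChange_repr_tmul, KaehlerDifferential.mvPolynomialBasis_repr_apply,
      Algebra.smul_def, mul_comm]
    rfl
  have h2 := congrArg (fun t => B.repr t 0) hc
  have h3 := congrArg (fun t => B.repr t 1) hc
  simp only [hcoord] at h2 h3
  have hmem0 : MvPolynomial.X 1 * g ∈ I := by
    rw [← Ideal.Quotient.eq_zero_iff_mem]
    have : MvPolynomial.pderiv (0 : Fin 2) (MvPolynomial.X 0 * MvPolynomial.X 1 * g : P) =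
        MvPolynomial.X 1 * g + MvPolynomial.X 0 * MvPolynomial.X 1 * MvPolynomial.pderiv 0 g := by
      simp [Derivation.leibniz, MvPolynomial.pderiv_X]; ring
    rw [this, map_add, map_mul (Ideal.Quotient.mk I) (MvPolynomial.X 0 * MvPolynomial.X 1)] at h2
    have h0 : Ideal.Quotient.mk I (MvPolynomial.X 0 * MvPolynomial.X 1) = 0 := by
      rw [Ideal.Quotient.eq_zero_iff_mem]; exact Ideal.subset_span rfl
    rw [h0, zero_mul, add_zero] at h2
    simpa [MvPolynomial.pderiv_X] using h2
  have hmem1 : MvPolynomial.X 0 * g - MvPolynomial.X 0 ∈ I := by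
    rw [← Ideal.Quotient.eq_zero_iff_mem, map_sub, sub_eq_zero]
    have : MvPolynomial.pderiv (1 : Fin 2) (MvPolynomial.X 0 * MvPolynomial.X 1 * g : P) =
        MvPolynomial.X 0 * g + MvPolynomial.X 0 * MvPolynomial.X 1 * MvPolynomial.pderiv 1 g := by
      simp [Derivation.leibniz, MvPolynomial.pderiv_X]; ring
    rw [this, map_add, map_mul (Ideal.Quotient.mk I) (MvPolynomial.X 0 * MvPolynomial.X 1)] at h3
    have h0 : Ideal.Quotient.mk I (MvPolynomial.X 0 * MvPolynomial.X 1) = 0 := by
      rw [Ideal.Quotient.eq_zero_iff_mem]; exact Ideal.subset_span rfl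
    rw [h0, zero_mul, add_zero] at h3
    simpa [MvPolynomial.pderiv_X] using h3
  rw [hI, Ideal.mem_span_singleton] at hmem0 hmem1
  obtain ⟨a, ha⟩ := hmem0
  obtain ⟨b, hb⟩ := hmem1
  -- `g = X₀ a`, `g - 1 = X₁ b`
  have hX : ∀ i : Fin 2, (MvPolynomial.X i : P) ≠ 0 := fun i => MvPolynomial.X_ne_zero i
  have ha' : g = MvPolynomial.X 0 * a := mul_left_cancel₀ (hX 1) (by rw [ha]; ring)
  have hb' : g - 1 = MvPolynomial.X 1 * b := mul_left_cancel₀ (hX 0) (by rw [mul_sub, mul_one, hb]; ring)
  have h4 := congrArg (MvPolynomial.aeval (fun _ : Fin 2 => (0 : k))) hb'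
  rw [ha'] at h4
  simp at h4

end K852.Node
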