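import Groth.Agent.DeRham.K852.Weights
import Groth.Agent.DeRham.K852.Maps
import Groth.Agent.Lefpen.H721.OmegaPow
import Mathlib.RingTheory.Kaehler.Polynomial

/-!
# The Poincaré lemma for `A → A[X]` over a `ℚ`-algebra
-/

set_option autoImplicit false
universe u

open exteriorPower Polynomial

namespace K852.DR

section

/-- The Euler derivation on differentials of `A[X]`. -/
noncomputable def euler (R A : Type u) [CommRing R] [CommRing A] [Algebra R A] :
    Module.Dual A[X] (Ω[A[X]⁄R]) :=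
  ((X : A[X]) • (Polynomial.derivative' (R := A)).restrictScalars R).liftKaehlerDifferential

variable {R A : Type u} [CommRing R] [CommRing A] [Algebra R A]

theorem euler_D (f : A[X]) : euler R A (KaehlerDifferential.D R A[X] f) = X * derivative f := by
  rw [euler, Derivation.liftKaehlerDifferential_comp_D]
  rfl

theorem euler_monomial (n : ℕ) (a : A) :
    euler R A (KaehlerDifferential.D R A[X] (monomial n a)) = n • monomial n a := by
  rw [euler_D, derivative_monomial, X_mul_monomial]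
  cases n with
  | zero => simp
  | succ n => rw [Nat.add_sub_cancel, ← nsmul_eq_mul', map_nsmul]

variable {d : ∀ p : ℕ, ↥(⋀[A]^p (Ω[A⁄R])) →ₗ[R] ↥(⋀[A]^(p + 1) (Ω[A⁄R]))}
  {d' : ∀ p : ℕ, ↥(⋀[A[X]]^p (Ω[A[X]⁄R])) →ₗ[R] ↥(⋀[A[X]]^(p + 1) (Ω[A[X]⁄R]))}
  {ψ : ∀ p : ℕ, ↥(⋀[A]^p (Ω[A⁄R])) →+ ↥(⋀[A[X]]^p (Ω[A[X]⁄R]))}

theorem contr_psi (hψ : DeRham.IsCxMap (KaehlerDifferential.D R A) (KaehlerDifferential.D R A[X])
    (algebraMap A A[X]) ψ) (p : ℕ) (x : ↥(⋀[A]^(p + 1) (Ω[A⁄R]))) :
    contr (euler R A) p (ψ (p + 1) x) = 0 := by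
  refine gen_induction _ (kaehler_span R A) (p + 1)
    (P := fun x => contr (euler R A) p (ψ (p + 1) x) = 0) ?_ ?_ ?_ ?_ x
  · intro b₀ b
    rw [hψ, DeRham.gen, map_smul, contr_ιMulti_eq_zero, smul_zero]
    intro i
    rw [Polynomial.algebraMap_eq, euler_D, derivative_C, mul_zero]
  · rw [map_zero, map_zero]
  · intro x y hx hy; rw [map_add, map_add, hx, hy, add_zero]
  · intro x hx; rw [map_neg, map_neg, hx, neg_zero]

theorem lie_psi (hd : DeRham.IsRule (KaehlerDifferential.D R A) d)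
    (hd' : DeRham.IsRule (KaehlerDifferential.D R A[X]) d')
    (hψ : DeRham.IsCxMap (KaehlerDifferential.D R A) (KaehlerDifferential.D R A[X])
    (algebraMap A A[X]) ψ) (p : ℕ) (x : ↥(⋀[A]^p (Ω[A⁄R]))) :
    lie d' (euler R A) p (ψ p x) = 0 := by
  have hc := fun p x => isCxMap_comm (kaehler_span R A) hd hd' hψ p x
  cases p with
  | zero => rw [lie_zero, ← hc, contr_psi hψ]
  | succ p => rw [lie_succ, ← hc, contr_psi hψ, contr_psi hψ, map_zero, add_zero]

/-- sums of a form from `A` and of forms of positive weight -/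
noncomputable def wsub (d' : ∀ p : ℕ, ↥(⋀[A[X]]^p (Ω[A[X]⁄R])) →ₗ[R] ↥(⋀[A[X]]^(p + 1) (Ω[A[X]⁄R])))
    (ψ : ∀ p : ℕ, ↥(⋀[A]^p (Ω[A⁄R])) →+ ↥(⋀[A[X]]^p (Ω[A[X]⁄R]))) (p : ℕ) :
    AddSubgroup ↥(⋀[A[X]]^p (Ω[A[X]⁄R])) :=
  AddSubgroup.closure (Set.range (ψ p) ∪ {y | ∃ n : ℕ, lie d' (euler R A) p y = (n + 1) • y})

theorem psi_mem_wsub (p : ℕ) (x : ↥(⋀[A]^p (Ω[A⁄R]))) : ψ p x ∈ wsub d' ψ p :=
  AddSubgroup.subset_closure (Or.inl ⟨x, rfl⟩)

theorem weight_mem_wsub (p n : ℕ) (y : ↥(⋀[A[X]]^p (Ω[A[X]⁄R])))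
    (hy : lie d' (euler R A) p y = (n + 1) • y) : y ∈ wsub d' ψ p :=
  AddSubgroup.subset_closure (Or.inr ⟨n, hy⟩)

theorem smul_mem_wsub (hd : DeRham.IsRule (KaehlerDifferential.D R A) d)
    (hd' : DeRham.IsRule (KaehlerDifferential.D R A[X]) d')
    (hψ : DeRham.IsCxMap (KaehlerDifferential.D R A) (KaehlerDifferential.D R A[X])
    (algebraMap A A[X]) ψ) (p : ℕ) (f : A[X]) (y : ↥(⋀[A[X]]^p (Ω[A[X]⁄R])))
    (hy : y ∈ wsub d' ψ p) : f • y ∈ wsub d' ψ p := by
  induction f using Polynomial.induction_on' with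
  | add f g hf hg => rw [add_smul]; exact add_mem hf hg
  | monomial n a =>
    induction hy using AddSubgroup.closure_induction with
    | zero => rw [smul_zero]; exact zero_mem _
    | add x y _ _ hx hy => rw [smul_add]; exact add_mem hx hy
    | neg x _ hx => rw [smul_neg]; exact neg_mem hx
    | mem x hx =>
      rcases hx with ⟨x, rfl⟩ | ⟨m, hm⟩
      · cases n with
        | zero =>
          have : (monomial 0 a : A[X]) • ψ p x = ψ p (a • x) := by
            rw [isCxMap_smul (kaehler_span R A) hψ]; rfl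
          rw [this]
          exact psi_mem_wsub p _
        | succ n =>
          refine weight_mem_wsub p n _ ?_
          have := lie_weight_smul (kaehler_span R A[X]) hd' (euler R A) p (monomial (n + 1) a) (n + 1) 0
            (euler_monomial (n + 1) a) (ψ p x) (by rw [lie_psi hd hd' hψ, zero_smul])
          rwa [add_zero] at this
      · refine weight_mem_wsub p (n + m) _ ?_
        have := lie_weight_smul (kaehler_span R A[X]) hd' (euler R A) p (monomial n a) n (m + 1)
            (euler_monomial n a) x hm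
        rwa [← add_assoc] at this

theorem wedge1_mem_wsub (hd : DeRham.IsRule (KaehlerDifferential.D R A) d)
    (hd' : DeRham.IsRule (KaehlerDifferential.D R A[X]) d')
    (hψ : DeRham.IsCxMap (KaehlerDifferential.D R A) (KaehlerDifferential.D R A[X])
    (algebraMap A A[X]) ψ) (p : ℕ) (f : A[X]) (y : ↥(⋀[A[X]]^p (Ω[A[X]⁄R])))
    (hy : y ∈ wsub d' ψ p) : wedge1 p (KaehlerDifferential.D R A[X] f) y ∈ wsub d' ψ (p + 1) := by
  induction f using Polynomial.induction_on' with
  | add f g hf hg => rw [map_add, map_add, LinearMap.add_apply]; exact add_mem hf hg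
  | monomial n a =>
    induction hy using AddSubgroup.closure_induction with
    | zero => rw [map_zero]; exact zero_mem _
    | add x y _ _ hx hy => rw [map_add]; exact add_mem hx hy
    | neg x _ hx => rw [map_neg]; exact neg_mem hx
    | mem x hx =>
      rcases hx with ⟨x, rfl⟩ | ⟨m, hm⟩
      · cases n with
        | zero =>
          have : wedge1 p (KaehlerDifferential.D R A[X] (monomial 0 a)) (ψ p x) =
              ψ (p + 1) (wedge1 p (KaehlerDifferential.D R A a) x) := by
            rw [isCxMap_wedge1 (kaehler_span R A) hψ]; rfl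
          rw [this]
          exact psi_mem_wsub _ _
        | succ n =>
          refine weight_mem_wsub (p + 1) n _ ?_
          have := lie_weight_wedge1 (kaehler_span R A[X]) hd' (euler R A) p (monomial (n + 1) a)
            (n + 1) 0 (euler_monomial (n + 1) a) (ψ p x) (by rw [lie_psi hd hd' hψ, zero_smul])
          rwa [add_zero] at this
      · refine weight_mem_wsub (p + 1) (n + m) _ ?_
        have := lie_weight_wedge1 (kaehler_span R A[X]) hd' (euler R A) p (monomial n a) n (m + 1)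
            (euler_monomial n a) x hm
        rwa [← add_assoc] at this

theorem mem_wsub (hd : DeRham.IsRule (KaehlerDifferential.D R A) d)
    (hd' : DeRham.IsRule (KaehlerDifferential.D R A[X]) d')
    (hψ : DeRham.IsCxMap (KaehlerDifferential.D R A) (KaehlerDifferential.D R A[X])
    (algebraMap A A[X]) ψ) (p : ℕ) (y : ↥(⋀[A[X]]^p (Ω[A[X]⁄R]))) : y ∈ wsub d' ψ p := by
  have h1 : ∀ (p : ℕ) (b : Fin p → A[X]), ιMulti A[X] p (fun i => KaehlerDifferential.D R A[X] (b i)) ∈
      wsub d' ψ p := by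
    intro p
    induction p with
    | zero =>
      intro b
      have := hψ 0 1 Fin.elim0
      rw [DeRham.gen, DeRham.gen, map_one, one_smul, one_smul] at this
      have h2 : ιMulti A[X] 0 (fun i => KaehlerDifferential.D R A[X] (b i)) =
          ψ 0 (ιMulti A 0 (fun i => KaehlerDifferential.D R A (Fin.elim0 i))) := by
        rw [this]
        congr 1
        funext i
        exact i.elim0
      rw [h2]
      exact psi_mem_wsub 0 _
    | succ p ih =>
      intro b
      rw [ιMulti_succ]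
      exact wedge1_mem_wsub hd hd' hψ p _ _ (ih _)
  refine gen_induction _ (kaehler_span R A[X]) p (P := fun y => y ∈ wsub d' ψ p) ?_ (zero_mem _)
    (fun _ _ hx hy => add_mem hx hy) (fun _ hx => neg_mem hx) y
  intro b₀ b
  exact smul_mem_wsub hd hd' hψ p _ _ (h1 p b)

/-- the decomposition of a form into weights -/
theorem exists_weights (hd : DeRham.IsRule (KaehlerDifferential.D R A) d)
    (hd' : DeRham.IsRule (KaehlerDifferential.D R A[X]) d')
    (hψ : DeRham.IsCxMap (KaehlerDifferential.D R A) (KaehlerDifferential.D R A[X])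
    (algebraMap A A[X]) ψ) (p : ℕ) (y : ↥(⋀[A[X]]^p (Ω[A[X]⁄R]))) :
    ∃ (x : ↥(⋀[A]^p (Ω[A⁄R]))) (N : ℕ) (w : ℕ → ↥(⋀[A[X]]^p (Ω[A[X]⁄R]))),
      (∀ n, lie d' (euler R A) p (w n) = (n + 1) • w n) ∧ y = ψ p x + ∑ n ∈ Finset.range N, w n := by
  have hy := mem_wsub hd hd' hψ p y
  induction hy using AddSubgroup.closure_induction with
  | zero => exact ⟨0, 0, 0, fun n => by simp, by simp⟩
  | add x y _ _ hx hy =>
    obtain ⟨x₁, N₁, w₁, hw₁, rfl⟩ := hx
    obtain ⟨x₂, N₂, w₂, hw₂, rfl⟩ := hy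
    refine ⟨x₁ + x₂, max N₁ N₂, fun n => (if n < N₁ then w₁ n else 0) + (if n < N₂ then w₂ n else 0),
      fun n => ?_, ?_⟩
    · rw [map_add, smul_add]
      congr 1
      · split_ifs
        · exact hw₁ n
        · simp
      · split_ifs
        · exact hw₂ n
        · simp
    · have hs : ∀ (N : ℕ) (hN : N ≤ max N₁ N₂) (w : ℕ → ↥(⋀[A[X]]^p (Ω[A[X]⁄R]))),
          ∑ n ∈ Finset.range (max N₁ N₂), (if n < N then w n else 0) = ∑ n ∈ Finset.range N, w n := by
        intro N hN w
        rw [← Finset.sum_filter]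
        congr 1
        ext n
        simp only [Finset.mem_filter, Finset.mem_range]
        omega
      rw [Finset.sum_add_distrib, hs N₁ (le_max_left _ _), hs N₂ (le_max_right _ _), map_add]
      abel
  | neg x _ hx =>
    obtain ⟨x₁, N₁, w₁, hw₁, rfl⟩ := hx
    refine ⟨-x₁, N₁, fun n => -w₁ n, fun n => ?_, ?_⟩
    · rw [map_neg, hw₁, smul_neg]
    · rw [map_neg, Finset.sum_neg_distrib, neg_add]
  | mem x hx =>
    rcases hx with ⟨x, rfl⟩ | ⟨m, hm⟩
    · exact ⟨x, 0, 0, fun n => by simp, by simp⟩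
    · refine ⟨0, m + 1, fun n => if n = m then x else 0, fun n => ?_, ?_⟩
      · dsimp only
        split_ifs with h
        · rw [h]; exact hm
        · simp
      · simp

/-- evaluation at `X = 0` on forms -/
theorem exists_retraction_psi (hd : DeRham.IsRule (KaehlerDifferential.D R A) d)
    (hd' : DeRham.IsRule (KaehlerDifferential.D R A[X]) d')
    (hψ : DeRham.IsCxMap (KaehlerDifferential.D R A) (KaehlerDifferential.D R A[X])
    (algebraMap A A[X]) ψ) :
    ∃ ε : ∀ p : ℕ, ↥(⋀[A[X]]^p (Ω[A[X]⁄R])) →+ ↥(⋀[A]^p (Ω[A⁄R])),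
      (∀ p x, ε p (ψ p x) = x) ∧ ∀ p y, ε (p + 1) (d' p y) = d p (ε p y) := by
  let φ : A[X] →ₐ[R] A := (Polynomial.aeval (0 : A)).restrictScalars R
  have hε := isCxMap_psi (δ := KaehlerDifferential.D R A[X]) (δ' := KaehlerDifferential.D R A)
    (Groth.Agent.Lefpen.H721.OmegaPow.omS φ) (Groth.Agent.Lefpen.H721.OmegaPow.omS_D φ)
  refine ⟨psi (Groth.Agent.Lefpen.H721.OmegaPow.omS φ), fun p x => ?_, fun p y =>
    isCxMap_comm (kaehler_span R A[X]) hd' hd hε p y⟩
  have : (psi (Groth.Agent.Lefpen.H721.OmegaPow.omS φ) p).comp (ψ p) = AddMonoidHom.id _ := by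
    refine gen_ext _ (kaehler_span R A) p _ _ fun b₀ b => ?_
    rw [AddMonoidHom.comp_apply, hψ, hε]
    have h : ∀ a, (φ : A[X] →+* A) (algebraMap A A[X] a) = a := fun a => by
      change Polynomial.aeval (0 : A) (algebraMap A A[X] a) = a
      simp
    simp only [h]
    rfl
  exact DFunLike.congr_fun this x

theorem poincare_polynomial [Algebra ℚ R]
    (hd : DeRham.IsRule (KaehlerDifferential.D R A) d)
    (hd' : DeRham.IsRule (KaehlerDifferential.D R A[X]) d')
    (hψ : DeRham.IsCxMap (KaehlerDifferential.D R A) (KaehlerDifferential.D R A[X])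
    (algebraMap A A[X]) ψ) (i : ℕ) :
    (∀ y ∈ DeRham.cocycles d' i, ∃ x ∈ DeRham.cocycles d i, y - ψ i x ∈ DeRham.coboundaries d' i) ∧
      (∀ x ∈ DeRham.cocycles d i, ψ i x ∈ DeRham.coboundaries d' i → x ∈ DeRham.coboundaries d i) := by
  obtain ⟨ε, hεψ, hεd⟩ := exists_retraction_psi hd hd' hψ
  have hdd := fun p x => d_d (kaehler_span R A[X]) hd' p x
  constructor
  · intro y hy
    obtain ⟨x, N, w, hw, hyw⟩ := exists_weights hd hd' hψ i y
    have h1 : y - ψ i x ∈ DeRham.coboundaries d' i :=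
      sub_mem_coboundaries_of_weights hdd (euler R A) i (ψ i x) (lie_psi hd hd' hψ i x) N y hy w
        (fun n _ => hw n) hyw
    refine ⟨x, ?_, h1⟩
    have h2 : d' i (y - ψ i x) = 0 := coboundaries_le_cocycles hdd i h1
    have h3 : d' i y = 0 := hy
    rw [map_sub, h3, zero_sub, neg_eq_zero, ← isCxMap_comm (kaehler_span R A) hd hd' hψ] at h2
    change d i x = 0
    rw [← hεψ (i + 1) (d i x), h2, map_zero]
  · intro x _ hx
    cases i with
    | zero =>
      have h0 : ψ 0 x = 0 := hx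
      change x = 0
      rw [← hεψ 0 x, h0, map_zero]
    | succ i =>
      obtain ⟨w, hw⟩ := hx
      refine ⟨ε i w, ?_⟩
      rw [← hεd, hw, hεψ]

end

end K852.DR
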