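import Groth.Agent.DeRham.K852.Closed
import Mathlib.RingTheory.MvPowerSeries.Derivative
import Mathlib.LinearAlgebra.StdBasis

/-!
# The formal Poincaré lemma for power series over a field of characteristic zero
-/

set_option autoImplicit false
universe u

open exteriorPower

namespace K852.DR

variable (k : Type u) [Field k] (σ : Type u) [Fintype σ]

/-- division of the coefficient of `x^m` by `|m| + c` -/
noncomputable def invW (c : ℕ) : MvPowerSeries σ k →ₗ[k] MvPowerSeries σ k where
  toFun f := fun m => MvPowerSeries.coeff m f / ((m.degree : k) + c)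
  map_add' f g := by
    ext m
    change (MvPowerSeries.coeff m (f + g)) / _ = MvPowerSeries.coeff m f / _ + MvPowerSeries.coeff m g / _
    rw [map_add, add_div]
  map_smul' a f := by
    ext m
    change (MvPowerSeries.coeff m (a • f)) / _ = a • (MvPowerSeries.coeff m f / _)
    rw [map_smul, smul_eq_mul, smul_eq_mul, mul_div_assoc]

omit [Fintype σ] in
theorem coeff_invW (c : ℕ) (f : MvPowerSeries σ k) (m : σ →₀ ℕ) :
    MvPowerSeries.coeff m (invW k σ c f) = MvPowerSeries.coeff m f / ((m.degree : k) + c) := rfl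

omit [Fintype σ] in
theorem pderiv_invW (c : ℕ) (f : MvPowerSeries σ k) (i : σ) :
    MvPowerSeries.pderiv k i (invW k σ c f) = invW k σ (c + 1) (MvPowerSeries.pderiv k i f) := by
  ext m
  rw [coeff_invW, MvPowerSeries.coeff_pderiv, MvPowerSeries.coeff_pderiv, coeff_invW, map_add,
    Finsupp.degree_single]
  push_cast
  rw [div_mul_eq_mul_div]
  congr 1
  ring

omit [Fintype σ] in
theorem coeff_X_mul_pderiv (f : MvPowerSeries σ k) (i : σ) (m : σ →₀ ℕ) :
    MvPowerSeries.coeff m (MvPowerSeries.X i * MvPowerSeries.pderiv k i f) =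
      (m i : k) * MvPowerSeries.coeff m f := by
  classical
  rw [MvPowerSeries.X, MvPowerSeries.coeff_monomial_mul]
  split_ifs with h
  · have hm : m - Finsupp.single i 1 + Finsupp.single i 1 = m := tsub_add_cancel_of_le h
    rw [one_mul, MvPowerSeries.coeff_pderiv, hm, mul_comm]
    congr 1
    have h1 : 1 ≤ m i := by simpa using h i
    rw [Finsupp.tsub_apply, Finsupp.single_eq_same, Nat.cast_sub h1]
    simp
  · have h0 : m i = 0 := by
      by_contra h0
      apply h
      rw [Finsupp.single_le_iff]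
      omega
    rw [h0]; simp

theorem euler_invW [CharZero k] (c : ℕ) (hc : 0 < c) (f : MvPowerSeries σ k) :
    (∑ i, MvPowerSeries.X i * MvPowerSeries.pderiv k i (invW k σ c f)) + c • invW k σ c f = f := by
  ext m
  rw [map_add, map_sum, map_nsmul]
  simp only [coeff_X_mul_pderiv, coeff_invW]
  rw [← Finset.sum_mul, nsmul_eq_mul, ← add_mul]
  have h1 : (∑ i, (m i : k)) = (m.degree : k) := by
    rw [Finsupp.degree_eq_sum]; push_cast; rfl
  rw [h1, mul_div_cancel₀]
  have : ((m.degree + c : ℕ) : k) ≠ 0 := Nat.cast_ne_zero.mpr (by omega)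
  push_cast at this
  exact this

variable {k σ} in
theorem poincare_powerSeries [CharZero k] [LinearOrder σ]
    (δ : Derivation k (MvPowerSeries σ k) (σ → MvPowerSeries σ k))
    (hδ : ∀ (f : MvPowerSeries σ k) (i : σ), δ f i = MvPowerSeries.pderiv k i f)
    (hgen : Submodule.span (MvPowerSeries σ k) (Set.range δ) = ⊤)
    (d : ∀ p : ℕ, ↥(⋀[MvPowerSeries σ k]^p (σ → MvPowerSeries σ k)) →ₗ[k]
      ↥(⋀[MvPowerSeries σ k]^(p + 1) (σ → MvPowerSeries σ k)))
    (hd : DeRham.IsDiff δ d) (p : ℕ) :
    DeRham.cocycles d (p + 1) ≤ DeRham.coboundaries d (p + 1) := by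
  set A := MvPowerSeries σ k with hA
  let b : Module.Basis σ A (σ → A) := Pi.basisFun A σ
  have hbδ : ∀ i, b i = δ (MvPowerSeries.X i) := by
    intro i
    funext j
    rw [hδ, MvPowerSeries.pderiv_X, Pi.basisFun_apply]
    by_cases h : i = j
    · subst h; simp
    · rw [Pi.single_eq_of_ne h, Pi.single_eq_of_ne (Ne.symm h)]
  have hrepr : ∀ (v : σ → A) (i : σ), b.repr v i = v i := fun v i => rfl
  have hrule := ruleOn_range hd.1
  have hbG : ∀ i, b i ∈ Set.range δ := fun i => ⟨_, (hbδ i).symm⟩
  let φ : Module.Dual A (σ → A) := ∑ i, (MvPowerSeries.X i : A) • (LinearMap.proj i : (σ → A) →ₗ[A] A)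
  have hφ : ∀ v : σ → A, φ v = ∑ i, (MvPowerSeries.X i : A) * v i := by
    intro v
    simp only [φ, LinearMap.sum_apply, LinearMap.smul_apply, smul_eq_mul, LinearMap.proj_apply]
  have hφX : ∀ i, φ (δ (MvPowerSeries.X i)) = MvPowerSeries.X i := by
    intro i
    rw [← hbδ, hφ, Finset.sum_eq_single i]
    · rw [Pi.basisFun_apply, Pi.single_eq_same, mul_one]
    · intro j _ hj
      rw [Pi.basisFun_apply, Pi.single_eq_of_ne hj, mul_zero]
    · intro h; exact absurd (Finset.mem_univ i) h
  -- the Lie derivative on wedges of basis vectors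
  have hL1 : ∀ (q : ℕ) (τ : Fin q → σ), lie d φ q (ιMulti A q (fun i => b (τ i))) =
      q • ιMulti A q (fun i => b (τ i)) := by
    intro q
    induction q with
    | zero =>
      intro τ
      have h1 : ιMulti A 0 (fun i => b (τ i)) = (1 : A) • ιMulti A 0 (fun i => b (τ i)) := (one_smul _ _).symm
      rw [lie_zero, h1, hrule 0 1 _ (fun i => i.elim0), Derivation.map_one_eq_zero]
      simp
    | succ q ih =>
      intro τ
      rw [ιMulti_succ, hbδ, lie_wedge1_G hgen hrule φ q _ ⟨_, rfl⟩, ih, hφX, map_nsmul, succ_nsmul]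
      exact add_comm _ _
  have hL : ∀ (q : ℕ), 0 < q → ∀ x : ↥(⋀[A]^q (σ → A)), lie d φ q (cw b q (invW k σ q) x) = x := by
    intro q hq x
    refine basis_induction b q (P := fun x => lie d φ q (cw b q (invW k σ q) x) = x) ?_ ?_ ?_ x
    · intro f τ
      rw [cw_smul_ιMulti, lie_smul_G hgen hrule, hL1, hφ]
      simp only [hδ]
      rw [smul_comm, ← smul_assoc, ← add_smul]
      congr 1
      exact euler_invW k σ q hq f
    · simp
    · intro x y hx hy; rw [map_add, map_add, hx, hy]
  intro x hx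
  have hx0 : d (p + 1) x = 0 := hx
  have h1 := hL (p + 1) (Nat.succ_pos p) x
  rw [lie_succ, ← cw_d b hrule hbG (invW k σ (p + 1)) (invW k σ (p + 1 + 1)) (fun i f => by
    rw [hrepr, hrepr, hδ, hδ, pderiv_invW]), hx0, map_zero, map_zero, add_zero] at h1
  rw [← h1]
  exact ⟨_, rfl⟩

end K852.DR
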