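import Groth.Agent.DeRham.K852.Basic
import Mathlib.Algebra.Algebra.Rat
import Mathlib.Algebra.BigOperators.Intervals

/-!
# Weights: the homotopy argument with a Lie derivative

If `y` is a closed form which is a sum `y₀ + y₁ + … + y_N` of eigenvectors of the Lie derivative along `φ`, `y_n` for the
eigenvalue `n`, over a `ℚ`-algebra, then `y - y₀` is exact.
-/

set_option autoImplicit false

universe v u

open exteriorPower

namespace K852.DR

section

variable {R : Type v} {A M : Type u} [CommRing R] [CommRing A] [Algebra R A]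
  [AddCommGroup M] [Module A M] [Module R M] [IsScalarTower R A M]
  {δ : Derivation R A M} {d : ∀ p : ℕ, ↥(⋀[A]^p M) →ₗ[R] ↥(⋀[A]^(p + 1) M)}

/-- The Lie derivative of a closed form is exact. -/
theorem lie_mem_coboundaries (φ : Module.Dual A M) (p : ℕ) (y : ↥(⋀[A]^p M)) (hy : d p y = 0) :
    lie d φ p y ∈ DeRham.coboundaries d p := by
  cases p with
  | zero => rw [lie_zero, hy, map_zero]; exact zero_mem _
  | succ p =>
    rw [lie_succ, hy, map_zero, add_zero]
    exact ⟨_, rfl⟩

theorem coboundaries_le_cocycles (hdd : ∀ (p : ℕ) (x : ↥(⋀[A]^p M)), d (p + 1) (d p x) = 0) (p : ℕ) :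
    DeRham.coboundaries d p ≤ DeRham.cocycles d p := by
  cases p with
  | zero => exact bot_le
  | succ p => rintro _ ⟨x, rfl⟩; exact hdd p x

theorem sub_mem_coboundaries_of_weights [Algebra ℚ R] (hdd : ∀ (p : ℕ) (x : ↥(⋀[A]^p M)), d (p + 1) (d p x) = 0)
    (φ : Module.Dual A M) (p : ℕ) (y₀ : ↥(⋀[A]^p M)) (h₀ : lie d φ p y₀ = 0) (N : ℕ) :
    ∀ (y : ↥(⋀[A]^p M)) (_ : d p y = 0) (w : ℕ → ↥(⋀[A]^p M))
      (_ : ∀ n < N, lie d φ p (w n) = (n + 1) • w n) (_ : y = y₀ + ∑ n ∈ Finset.range N, w n),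
      y - y₀ ∈ DeRham.coboundaries d p := by
  induction N with
  | zero =>
    intro y hy w hw hyw
    rw [hyw, Finset.sum_range_zero, add_zero, sub_self]
    exact zero_mem _
  | succ N ih =>
    intro y hy w hw hyw
    -- the scalar `1/(N+1)`
    set c : R := algebraMap ℚ R (1 / (N + 1 : ℚ)) with hc
    have hcN : c * ((N + 1 : ℕ) : R) = 1 := by
      rw [hc, ← map_natCast (algebraMap ℚ R), ← map_mul]
      have : (1 / (N + 1 : ℚ)) * ((N + 1 : ℕ) : ℚ) = 1 := by
        push_cast
        field_simp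
      rw [this, map_one]
    have hL : lie d φ p y ∈ DeRham.coboundaries d p := lie_mem_coboundaries φ p y hy
    have hLy : lie d φ p y = ∑ n ∈ Finset.range (N + 1), (n + 1) • w n := by
      rw [hyw, map_add, h₀, zero_add, map_sum]
      exact Finset.sum_congr rfl fun n hn => hw n (Finset.mem_range.mp hn)
    have key := ih (y - c • lie d φ p y) ?_ (fun n => (1 - c * ((n + 1 : ℕ) : R)) • w n) ?_ ?_
    · have : y - y₀ = (y - c • lie d φ p y - y₀) + c • lie d φ p y := by abel
      rw [this]
      exact add_mem key (Submodule.smul_mem _ c hL)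
    · have h1 : d p (lie d φ p y) = 0 := coboundaries_le_cocycles hdd p hL
      rw [map_sub, map_smul, hy, h1, smul_zero, sub_zero]
    · intro n hn
      rw [map_smul, hw n (by omega), smul_comm]
    · rw [hLy, hyw, Finset.smul_sum, add_sub_assoc, ← Finset.sum_sub_distrib]
      congr 1
      rw [Finset.sum_range_succ]
      have hz : w N - c • (N + 1) • w N = 0 := by
        rw [← Nat.cast_smul_eq_nsmul R, smul_smul, hcN, one_smul, sub_self]
      rw [hz, add_zero]
      refine Finset.sum_congr rfl fun n _ => ?_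
      have h2 := sub_smul (1 : R) (c * ((n + 1 : ℕ) : R)) (w n)
      rw [h2, one_smul, mul_smul, Nat.cast_smul_eq_nsmul R]

/-- Contraction kills a wedge of vectors killed by `φ`. -/
theorem contr_ιMulti_eq_zero (φ : Module.Dual A M) (p : ℕ) (v : Fin (p + 1) → M) (hv : ∀ i, φ (v i) = 0) :
    contr φ p (ιMulti A (p + 1) v) = 0 := by
  induction p with
  | zero => rw [ιMulti_succ, contr_wedge1_zero, hv, zero_smul]
  | succ p ih => rw [ιMulti_succ, contr_wedge1, hv, zero_smul, ih _ (fun i => hv _), map_zero, sub_zero]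

theorem lie_weight_smul (hgen : Submodule.span A (Set.range δ) = ⊤) (hd : DeRham.IsRule δ d)
    (φ : Module.Dual A M) (p : ℕ) (a : A) (m n : ℕ) (ha : φ (δ a) = m • a)
    (x : ↥(⋀[A]^p M)) (hx : lie d φ p x = n • x) : lie d φ p (a • x) = (m + n) • (a • x) := by
  rw [lie_smul hgen hd, ha, hx, smul_assoc, add_smul, smul_comm a n x]

theorem lie_weight_wedge1 (hgen : Submodule.span A (Set.range δ) = ⊤) (hd : DeRham.IsRule δ d)
    (φ : Module.Dual A M) (p : ℕ) (a : A) (m n : ℕ) (ha : φ (δ a) = m • a)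
    (x : ↥(⋀[A]^p M)) (hx : lie d φ p x = n • x) :
    lie d φ (p + 1) (wedge1 p (δ a) x) = (m + n) • wedge1 p (δ a) x := by
  rw [lie_wedge1 hgen hd, ha, hx, map_nsmul, map_nsmul, map_nsmul, LinearMap.smul_apply, add_smul]

end

end K852.DR
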